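import Mathlib

/-!
An upper bound on the element orders of the isometry group of a non-degenerate bilinear form on an
eight-dimensional space over a finite field of characteristic two.
-/

set_option autoImplicit false
set_option linter.unusedSectionVars false
set_option linter.style.haveILetI false

open Polynomial

namespace CfsgLib.Spectrum.EightEven

/-- Maximal orders of semisimple elements without fixed points in dimension `2 * c`. -/
def torusList (q : ℕ) : ℕ → List ℕ
  | 0 => [1]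
  | 1 => [q - 1, q + 1]
  | 2 => [q ^ 2 - 1, q ^ 2 + 1]
  | 3 => [q ^ 3 - 1, q ^ 3 + 1, (q ^ 2 + 1) * (q + 1), (q ^ 2 + 1) * (q - 1), q ^ 2 - 1]
  | _ => [q ^ 4 - 1, q ^ 4 + 1, (q ^ 3 + 1) * (q - 1), (q ^ 3 - 1) * (q + 1)]

/-- The maximal element orders of `Sp(8, q)`, `q` even. -/
def entries (q : ℕ) : List ℕ :=
  [q ^ 4 + 1, q ^ 4 - 1, (q ^ 3 + 1) * (q - 1), (q ^ 3 - 1) * (q + 1),
    2 * (q ^ 3 + 1), 2 * (q ^ 3 - 1), 2 * ((q ^ 2 + 1) * (q + 1)), 2 * ((q ^ 2 + 1) * (q - 1)),
    4 * (q ^ 2 + 1), 4 * (q ^ 2 - 1), 8 * (q + 1), 8 * (q - 1)]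

/-- The divisors of the maximal element orders. -/
def spec (q : ℕ) : Set ℕ := {n | ∃ N ∈ entries q, n ∣ N}

/-- The unipotent part going with `torusList q c`. -/
def twoPart : ℕ → ℕ
  | 0 => 8
  | 1 => 8
  | 2 => 4
  | 3 => 2
  | _ => 1

section arith

variable {q : ℕ}

theorem sq_sub_one_eq (q : ℕ) : q ^ 2 - 1 = (q + 1) * (q - 1) := by
  simpa using Nat.sq_sub_sq q 1

theorem quad_sub_one_eq (q : ℕ) : q ^ 4 - 1 = (q ^ 2 + 1) * (q ^ 2 - 1) := by
  rw [← sq_sub_one_eq, ← pow_mul]

theorem odd_of_mem_torusList (hq : Even q) (hq2 : 2 ≤ q) {c M : ℕ} (h : M ∈ torusList q c) : Odd M := by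
  have h1 : ∀ k, 1 ≤ k → Odd (q ^ k - 1) := fun k hk =>
    Nat.Even.sub_odd (Nat.one_le_pow _ _ (by omega)) (hq.pow_of_ne_zero (by omega)) odd_one
  have h2 : ∀ k, 1 ≤ k → Odd (q ^ k + 1) := fun k hk => (hq.pow_of_ne_zero (by omega)).add_one
  have h3 : Odd (q - 1) := by simpa using h1 1 le_rfl
  have h4 : Odd (q + 1) := hq.add_one
  rcases c with _ | _ | _ | _ | c <;> simp only [torusList, List.mem_cons, List.not_mem_nil, or_false] at h
  · subst h; exact odd_one
  · rcases h with rfl | rfl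
    · exact h3
    · exact h4
  · rcases h with rfl | rfl
    · exact h1 2 (by norm_num)
    · exact h2 2 (by norm_num)
  · rcases h with rfl | rfl | rfl | rfl | rfl
    · exact h1 3 (by norm_num)
    · exact h2 3 (by norm_num)
    · exact (h2 2 (by norm_num)).mul h4
    · exact (h2 2 (by norm_num)).mul h3
    · exact h1 2 (by norm_num)
  · rcases h with rfl | rfl | rfl | rfl
    · exact h1 4 (by norm_num)
    · exact h2 4 (by norm_num)
    · exact (h2 3 (by norm_num)).mul h3
    · exact (h1 3 (by norm_num)).mul h4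

theorem exists_mem_torusList_add {c d M T : ℕ} (hd : 1 ≤ d) (hcd : c + d ≤ 4)
    (hM : M ∈ torusList q c) (hT : T = q ^ d - 1 ∨ T = q ^ d + 1) :
    ∃ M' ∈ torusList q (c + d), M ∣ M' ∧ T ∣ M' := by
  have em : q - 1 ∣ q ^ 2 - 1 := sq_sub_one_eq q ▸ dvd_mul_left _ _
  have ep : q + 1 ∣ q ^ 2 - 1 := sq_sub_one_eq q ▸ dvd_mul_right _ _
  have f2 : q ^ 2 - 1 ∣ q ^ 4 - 1 := quad_sub_one_eq q ▸ dvd_mul_left _ _
  have g2 : q ^ 2 + 1 ∣ q ^ 4 - 1 := quad_sub_one_eq q ▸ dvd_mul_right _ _
  have f1 : q - 1 ∣ q ^ 4 - 1 := em.trans f2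
  have g1 : q + 1 ∣ q ^ 4 - 1 := ep.trans f2
  have m3 : q - 1 ∣ q ^ 3 - 1 := by simpa using Nat.sub_dvd_pow_sub_pow q 1 3
  have p3 : q + 1 ∣ q ^ 3 + 1 := by simpa using Odd.nat_add_dvd_pow_add_pow q 1 (show Odd 3 by decide)
  have k1 : (q ^ 2 + 1) * (q + 1) ∣ q ^ 4 - 1 := quad_sub_one_eq q ▸ mul_dvd_mul_left _ ep
  have k2 : (q ^ 2 + 1) * (q - 1) ∣ q ^ 4 - 1 := quad_sub_one_eq q ▸ mul_dvd_mul_left _ em
  have l1 : q - 1 ∣ (q ^ 3 - 1) * (q + 1) := m3.mul_right _
  have l2 : q + 1 ∣ (q ^ 3 + 1) * (q - 1) := p3.mul_right _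
  rcases c with _ | _ | _ | _ | c
  · simp only [torusList, List.mem_cons, List.not_mem_nil, or_false] at hM
    subst hM
    refine ⟨T, ?_, one_dvd _, dvd_rfl⟩
    rw [zero_add] at hcd ⊢
    rcases (show d = 1 ∨ d = 2 ∨ d = 3 ∨ d = 4 by omega) with rfl | rfl | rfl | rfl <;>
      rcases hT with rfl | rfl <;> simp [torusList]
  · simp only [torusList, List.mem_cons, List.not_mem_nil, or_false] at hM
    rcases (show d = 1 ∨ d = 2 ∨ d = 3 by omega) with rfl | rfl | rfl
    · refine ⟨q ^ 2 - 1, by simp [torusList], ?_, ?_⟩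
      · rcases hM with rfl | rfl <;> assumption
      · rw [pow_one] at hT; rcases hT with rfl | rfl <;> assumption
    · rcases hT with rfl | rfl
      · refine ⟨q ^ 2 - 1, by simp [torusList], ?_, dvd_rfl⟩
        rcases hM with rfl | rfl <;> assumption
      · rcases hM with rfl | rfl
        · exact ⟨(q ^ 2 + 1) * (q - 1), by simp [torusList], dvd_mul_left _ _, dvd_mul_right _ _⟩
        · exact ⟨(q ^ 2 + 1) * (q + 1), by simp [torusList], dvd_mul_left _ _, dvd_mul_right _ _⟩
    · rcases hT with rfl | rfl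
      · refine ⟨(q ^ 3 - 1) * (q + 1), by simp [torusList], ?_, dvd_mul_right _ _⟩
        rcases hM with rfl | rfl
        · exact l1
        · exact dvd_mul_left _ _
      · refine ⟨(q ^ 3 + 1) * (q - 1), by simp [torusList], ?_, dvd_mul_right _ _⟩
        rcases hM with rfl | rfl
        · exact dvd_mul_left _ _
        · exact l2
  · simp only [torusList, List.mem_cons, List.not_mem_nil, or_false] at hM
    rcases (show d = 1 ∨ d = 2 by omega) with rfl | rfl
    · rw [pow_one] at hT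
      rcases hM with rfl | rfl
      · refine ⟨q ^ 2 - 1, by simp [torusList], dvd_rfl, ?_⟩
        rcases hT with rfl | rfl <;> assumption
      · rcases hT with rfl | rfl
        · exact ⟨(q ^ 2 + 1) * (q - 1), by simp [torusList], dvd_mul_right _ _, dvd_mul_left _ _⟩
        · exact ⟨(q ^ 2 + 1) * (q + 1), by simp [torusList], dvd_mul_right _ _, dvd_mul_left _ _⟩
    · refine ⟨q ^ 4 - 1, by simp [torusList], ?_, ?_⟩
      · rcases hM with rfl | rfl <;> assumption
      · rcases hT with rfl | rfl <;> assumption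
  · simp only [torusList, List.mem_cons, List.not_mem_nil, or_false] at hM
    obtain rfl : d = 1 := by omega
    rw [pow_one] at hT
    rcases hM with rfl | rfl | rfl | rfl | rfl
    · refine ⟨(q ^ 3 - 1) * (q + 1), by simp [torusList], dvd_mul_right _ _, ?_⟩
      rcases hT with rfl | rfl
      · exact l1
      · exact dvd_mul_left _ _
    · refine ⟨(q ^ 3 + 1) * (q - 1), by simp [torusList], dvd_mul_right _ _, ?_⟩
      rcases hT with rfl | rfl
      · exact dvd_mul_left _ _
      · exact l2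
    · refine ⟨q ^ 4 - 1, by simp [torusList], k1, ?_⟩
      rcases hT with rfl | rfl <;> assumption
    · refine ⟨q ^ 4 - 1, by simp [torusList], k2, ?_⟩
      rcases hT with rfl | rfl <;> assumption
    · refine ⟨q ^ 4 - 1, by simp [torusList], f2, ?_⟩
      rcases hT with rfl | rfl <;> assumption
  · omega

theorem exists_mem_entries {c M : ℕ} (hc : c ≤ 4) (hM : M ∈ torusList q c) :
    ∃ N ∈ entries q, twoPart c * M ∣ N := by
  rcases (show c = 0 ∨ c = 1 ∨ c = 2 ∨ c = 3 ∨ c = 4 by omega) with rfl | rfl | rfl | rfl | rfl <;>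
    simp only [torusList, List.mem_cons, List.not_mem_nil, or_false] at hM
  · subst hM
    exact ⟨8 * (q + 1), by simp [entries], Nat.mul_dvd_mul_left 8 (one_dvd _)⟩
  · rcases hM with rfl | rfl
    · exact ⟨8 * (q - 1), by simp [entries], dvd_rfl⟩
    · exact ⟨8 * (q + 1), by simp [entries], dvd_rfl⟩
  · rcases hM with rfl | rfl
    · exact ⟨4 * (q ^ 2 - 1), by simp [entries], dvd_rfl⟩
    · exact ⟨4 * (q ^ 2 + 1), by simp [entries], dvd_rfl⟩
  · rcases hM with rfl | rfl | rfl | rfl | rfl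
    · exact ⟨2 * (q ^ 3 - 1), by simp [entries], dvd_rfl⟩
    · exact ⟨2 * (q ^ 3 + 1), by simp [entries], dvd_rfl⟩
    · exact ⟨2 * ((q ^ 2 + 1) * (q + 1)), by simp [entries], dvd_rfl⟩
    · exact ⟨2 * ((q ^ 2 + 1) * (q - 1)), by simp [entries], dvd_rfl⟩
    · exact ⟨4 * (q ^ 2 - 1), by simp [entries], Nat.mul_dvd_mul_right (by norm_num [twoPart]) _⟩
  · rcases hM with rfl | rfl | rfl | rfl
    · exact ⟨q ^ 4 - 1, by simp [entries], by simp [twoPart]⟩
    · exact ⟨q ^ 4 + 1, by simp [entries], by simp [twoPart]⟩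
    · exact ⟨(q ^ 3 + 1) * (q - 1), by simp [entries], by simp [twoPart]⟩
    · exact ⟨(q ^ 3 - 1) * (q + 1), by simp [entries], by simp [twoPart]⟩

end arith

section poly

variable {F : Type*} [Field F]

open scoped Classical in
/-- The irreducible polynomial of the inverses of the roots. -/
noncomputable def recip (f : F[X]) : F[X] :=
  if h : Irreducible f then (haveI := Fact.mk h; minpoly F (AdjoinRoot.root f)⁻¹) else f

/-- Monic irreducible polynomials other than `X`. -/
def IsFactor (f : F[X]) : Prop := f.Monic ∧ Irreducible f ∧ f.coeff 0 ≠ 0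

theorem IsFactor.root_ne_zero {f : F[X]} (h : IsFactor f) [Fact (Irreducible f)] :
    AdjoinRoot.root f ≠ 0 := by
  intro h0
  rw [← AdjoinRoot.mk_X, AdjoinRoot.mk_eq_zero] at h0
  have := eq_of_monic_of_associated h.1 monic_X (h.2.1.associated_of_dvd irreducible_X h0)
  exact h.2.2 (by rw [this, coeff_X_zero])

theorem recip_eq {f : F[X]} [hf : Fact (Irreducible f)] :
    recip f = minpoly F (AdjoinRoot.root f)⁻¹ := by
  rw [recip, dif_pos hf.out]

theorem IsFactor.isIntegral {f : F[X]} (h : IsFactor f) [Fact (Irreducible f)] (x : AdjoinRoot f) :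
    IsIntegral F x :=
  haveI : Module.Finite F (AdjoinRoot f) := (AdjoinRoot.powerBasis h.1.ne_zero).finite
  IsIntegral.of_finite F x

theorem IsFactor.recip {f : F[X]} (h : IsFactor f) : IsFactor (recip f) := by
  haveI := Fact.mk h.2.1
  rw [recip_eq]
  refine ⟨minpoly.monic (h.isIntegral _), minpoly.irreducible (h.isIntegral _), ?_⟩
  exact minpoly.coeff_zero_ne_zero (h.isIntegral _) (inv_ne_zero h.root_ne_zero)

theorem recip_natDegree_le {f : F[X]} (h : IsFactor f) : (recip f).natDegree ≤ f.natDegree := by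
  haveI := Fact.mk h.2.1
  haveI : Module.Finite F (AdjoinRoot f) := (AdjoinRoot.powerBasis h.1.ne_zero).finite
  rw [recip_eq]
  have := minpoly.natDegree_le (A := F) (AdjoinRoot.root f)⁻¹
  rwa [(AdjoinRoot.powerBasis h.1.ne_zero).finrank, AdjoinRoot.powerBasis_dim] at this

theorem recip_recip {f : F[X]} (h : IsFactor f) :
    EightEven.recip (EightEven.recip f) = f := by
  haveI := Fact.mk h.2.1
  haveI := Fact.mk h.recip.2.1
  rw [recip_eq (f := EightEven.recip f)]
  refine (minpoly.eq_of_irreducible_of_monic h.2.1 ?_ h.1).symm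
  have hroot : aeval (AdjoinRoot.root f)⁻¹ (EightEven.recip f) = 0 := by
    rw [recip_eq]; exact minpoly.aeval _ _
  let φ : AdjoinRoot (EightEven.recip f) →ₐ[F] AdjoinRoot f :=
    AdjoinRoot.liftAlgHom _ (Algebra.ofId F (AdjoinRoot f)) (AdjoinRoot.root f)⁻¹
      (by simpa [aeval_def, Algebra.toRingHom_ofId] using hroot)
  apply φ.toRingHom.injective
  show φ (aeval _ f) = φ 0
  rw [map_zero, ← aeval_algHom_apply, map_inv₀, AdjoinRoot.liftAlgHom_root, inv_inv,
    AdjoinRoot.aeval_eq, AdjoinRoot.mk_self]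

theorem recip_natDegree {f : F[X]} (h : IsFactor f) : (recip f).natDegree = f.natDegree := by
  refine le_antisymm (recip_natDegree_le h) ?_
  have := recip_natDegree_le h.recip
  rwa [recip_recip h] at this

theorem recip_associated {f : F[X]} (h : IsFactor f) : Associated (recip f) f.reverse := by
  haveI := Fact.mk h.2.1
  refine associated_of_dvd_of_natDegree_le ?_ ?_ ?_
  · rw [recip_eq]
    refine minpoly.dvd F _ ?_
    haveI := invertibleOfNonzero (inv_ne_zero h.root_ne_zero)
    haveI := invertibleOfNonzero h.root_ne_zero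
    have := Polynomial.eval₂_reverse_mul_pow (algebraMap F (AdjoinRoot f)) (AdjoinRoot.root f) f
    rw [invOf_eq_inv, ← aeval_def, ← aeval_def, AdjoinRoot.aeval_eq f, AdjoinRoot.mk_self] at this
    exact (mul_eq_zero.1 this).resolve_right (pow_ne_zero _ h.root_ne_zero)
  · rw [Ne, reverse_eq_zero]; exact h.1.ne_zero
  · rw [recip_natDegree h]; exact reverse_natDegree_le f

theorem isFactor_X_sub_one : IsFactor (X - 1 : F[X]) := by
  refine ⟨by simpa using monic_X_sub_C (1 : F), by simpa using irreducible_X_sub_C (1 : F), ?_⟩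
  simp

theorem eq_X_sub_one_of_root {f : F[X]} (h : IsFactor f) [Fact (Irreducible f)]
    (hr : AdjoinRoot.root f = 1) : f = X - 1 := by
  refine eq_of_monic_of_associated h.1 isFactor_X_sub_one.1
    (h.2.1.associated_of_dvd isFactor_X_sub_one.2.1 ?_)
  rw [← AdjoinRoot.mk_eq_zero, map_sub, AdjoinRoot.mk_X, map_one, hr, sub_self]

theorem recip_ne_X_sub_one {f : F[X]} (h : IsFactor f) (hne : f ≠ X - 1) : recip f ≠ X - 1 := by
  intro he
  haveI := Fact.mk h.2.1
  refine hne (eq_X_sub_one_of_root h ?_)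
  have := minpoly.aeval F (AdjoinRoot.root f)⁻¹
  rw [← recip_eq, he, map_sub, aeval_X, map_one, sub_eq_zero, inv_eq_one] at this
  exact this

variable [Fintype F]

theorem dvd_X_pow_sub_one_of_pair {f : F[X]} (h : IsFactor f) :
    f ∣ X ^ (Fintype.card F ^ f.natDegree - 1) - 1 := by
  haveI := Fact.mk h.2.1
  haveI : Module.Finite F (AdjoinRoot f) := (AdjoinRoot.powerBasis h.1.ne_zero).finite
  haveI : Finite (AdjoinRoot f) := Module.finite_of_finite F
  haveI : Fintype (AdjoinRoot f) := Fintype.ofFinite _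
  have hcard : Fintype.card (AdjoinRoot f) = Fintype.card F ^ f.natDegree := by
    rw [Module.card_eq_pow_finrank (K := F), (AdjoinRoot.powerBasis h.1.ne_zero).finrank,
      AdjoinRoot.powerBasis_dim]
  rw [← AdjoinRoot.mk_eq_zero, map_sub, map_pow, AdjoinRoot.mk_X, map_one, ← hcard,
    FiniteField.pow_card_sub_one_eq_one _ h.root_ne_zero, sub_self]

theorem dvd_X_pow_add_one_of_self [CharP F 2] {f : F[X]} (h : IsFactor f) (hne : f ≠ X - 1)
    (hself : recip f = f) :
    ∃ j, 1 ≤ j ∧ f.natDegree = 2 * j ∧ f ∣ X ^ (Fintype.card F ^ j + 1) - 1 := by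
  haveI := Fact.mk h.2.1
  haveI : Module.Finite F (AdjoinRoot f) := (AdjoinRoot.powerBasis h.1.ne_zero).finite
  haveI : Finite (AdjoinRoot f) := Module.finite_of_finite F
  haveI : CharP (AdjoinRoot f) 2 := charP_of_injective_algebraMap (algebraMap F _).injective 2
  have hroot : aeval (AdjoinRoot.root f)⁻¹ f = 0 := by
    have := minpoly.aeval F (AdjoinRoot.root f)⁻¹
    rwa [← recip_eq, hself] at this
  let τ : AdjoinRoot f →ₐ[F] AdjoinRoot f :=
    AdjoinRoot.liftAlgHom _ (Algebra.ofId F (AdjoinRoot f)) (AdjoinRoot.root f)⁻¹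
      (by simpa [aeval_def, Algebra.toRingHom_ofId] using hroot)
  have hτ : τ (AdjoinRoot.root f) = (AdjoinRoot.root f)⁻¹ := AdjoinRoot.liftAlgHom_root ..
  obtain ⟨⟨j, hj⟩, hτj⟩ := (FiniteField.bijective_frobeniusAlgHom_pow F (AdjoinRoot f)).2 τ
  have hfr : Module.finrank F (AdjoinRoot f) = f.natDegree := by
    rw [(AdjoinRoot.powerBasis h.1.ne_zero).finrank, AdjoinRoot.powerBasis_dim]
  have hjα : AdjoinRoot.root f ^ (Fintype.card F ^ j) = (AdjoinRoot.root f)⁻¹ := by
    rw [← hτ, ← hτj]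
    simp only [AlgHom.coe_pow, FiniteField.coe_frobeniusAlgHom, pow_iterate]
  have hj1 : 1 ≤ j := by
    by_contra hcon
    obtain rfl : j = 0 := by omega
    rw [pow_zero, pow_one] at hjα
    have h2 : AdjoinRoot.root f * AdjoinRoot.root f = 1 := by
      nth_rewrite 2 [hjα]
      exact mul_inv_cancel₀ h.root_ne_zero
    refine hne (eq_X_sub_one_of_root h ?_)
    rcases mul_self_eq_one_iff.1 h2 with h3 | h3
    · exact h3
    · rw [h3, CharTwo.neg_eq]
  have hper : (FiniteField.frobeniusAlgHom F (AdjoinRoot f)) ^ (j + j) = 1 := by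
    refine AdjoinRoot.algHom_ext ?_
    rw [AlgHom.coe_pow, FiniteField.coe_frobeniusAlgHom, pow_iterate, pow_add]
    show AdjoinRoot.root f ^ (Fintype.card F ^ j * Fintype.card F ^ j) = AdjoinRoot.root f
    rw [pow_mul, hjα, inv_pow, hjα, inv_inv]
  have hdvd : f.natDegree ∣ j + j := by
    rw [← hfr, ← FiniteField.orderOf_frobeniusAlgHom F (AdjoinRoot f)]
    exact orderOf_dvd_of_pow_eq_one hper
  have hdj : f.natDegree = 2 * j := by
    obtain ⟨c, hc⟩ := hdvd
    rcases c with _ | _ | c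
    · omega
    · omega
    · have : j < f.natDegree := hfr ▸ hj
      exfalso; nlinarith
  refine ⟨j, hj1, hdj, ?_⟩
  rw [← AdjoinRoot.mk_eq_zero, map_sub, map_pow, AdjoinRoot.mk_X, map_one, pow_succ, hjα,
    inv_mul_cancel₀ h.root_ne_zero, sub_self]

theorem X_pow_sub_one_dvd_of_dvd {M M' : ℕ} (h : M ∣ M') : (X ^ M - 1 : F[X]) ∣ X ^ M' - 1 := by
  obtain ⟨k, rfl⟩ := h
  rw [pow_mul]
  simpa using sub_dvd_pow_sub_pow ((X : F[X]) ^ M) 1 k

open scoped Classical in
/-- A self-reciprocal set of factors of total degree at most `8`. -/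
theorem exists_torus_exponent [CharP F 2] : ∀ (k : ℕ) (S : Finset F[X]), S.card = k →
    (∀ f ∈ S, IsFactor f ∧ f ≠ X - 1 ∧ recip f ∈ S) → (∑ f ∈ S, f.natDegree) ≤ 8 →
    ∃ c M, (∑ f ∈ S, f.natDegree) = 2 * c ∧ M ∈ torusList (Fintype.card F) c ∧
      ∀ f ∈ S, f ∣ X ^ M - 1 := by
  intro k
  induction k using Nat.strong_induction_on with
  | _ k ih =>
  intro S hk hS hdeg
  rcases S.eq_empty_or_nonempty with rfl | ⟨f, hf⟩
  · exact ⟨0, 1, by simp, by simp [torusList], by simp⟩
  obtain ⟨hfac, hne, hrec⟩ := hS f hf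
  have hP : ({f, recip f} : Finset F[X]) ⊆ S := by
    intro g hg
    simp only [Finset.mem_insert, Finset.mem_singleton] at hg
    rcases hg with rfl | rfl
    exacts [hf, hrec]
  have hsum := Finset.sum_sdiff (f := fun g : F[X] => g.natDegree) hP
  have hS' : ∀ g ∈ S \ {f, recip f}, IsFactor g ∧ g ≠ X - 1 ∧ recip g ∈ S \ {f, recip f} := by
    intro g hg
    simp only [Finset.mem_sdiff, Finset.mem_insert, Finset.mem_singleton] at hg ⊢
    obtain ⟨hgS, hgn⟩ := hg
    refine ⟨(hS g hgS).1, (hS g hgS).2.1, (hS g hgS).2.2, ?_⟩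
    rintro (h | h)
    · exact hgn (Or.inr (by rw [← h, recip_recip (hS g hgS).1]))
    · refine hgn (Or.inl ?_)
      rw [← recip_recip (hS g hgS).1, h, recip_recip hfac]
  obtain ⟨c, M, hc, hM, hdvd⟩ := ih (S \ {f, recip f}).card (by
    rw [← hk]
    exact Finset.card_lt_card (Finset.sdiff_ssubset hP ⟨f, by simp⟩)) _ rfl hS' (by omega)
  obtain ⟨d, T, hd, hdd, hT, hfT, hfT'⟩ : ∃ d T, 1 ≤ d ∧
      (∑ g ∈ ({f, recip f} : Finset F[X]), g.natDegree) = 2 * d ∧
      (T = Fintype.card F ^ d - 1 ∨ T = Fintype.card F ^ d + 1) ∧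
      f ∣ X ^ T - 1 ∧ recip f ∣ X ^ T - 1 := by
    by_cases hself : recip f = f
    · obtain ⟨j, hj, hdj, hdiv⟩ := dvd_X_pow_add_one_of_self hfac hne hself
      exact ⟨j, _, hj, by simp [hself, hdj], Or.inr rfl, hdiv, by rw [hself]; exact hdiv⟩
    · refine ⟨f.natDegree, _, hfac.2.1.natDegree_pos, ?_, Or.inl rfl, dvd_X_pow_sub_one_of_pair hfac, ?_⟩
      · rw [Finset.sum_pair (Ne.symm hself), recip_natDegree hfac, two_mul]
      · have := dvd_X_pow_sub_one_of_pair hfac.recip
        rwa [recip_natDegree hfac] at this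
  obtain ⟨M', hM', hMM', hTM'⟩ := exists_mem_torusList_add hd (by omega) hM hT
  refine ⟨c + d, M', by omega, hM', fun g hg => ?_⟩
  by_cases hgP : g ∈ ({f, recip f} : Finset F[X])
  · simp only [Finset.mem_insert, Finset.mem_singleton] at hgP
    rcases hgP with rfl | rfl
    · exact hfT.trans (X_pow_sub_one_dvd_of_dvd hTM')
    · exact hfT'.trans (X_pow_sub_one_dvd_of_dvd hTM')
  · exact (hdvd g (Finset.mem_sdiff.2 ⟨hg, hgP⟩)).trans (X_pow_sub_one_dvd_of_dvd hMM')

end poly

section bound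

variable {F : Type*} [Field F] [Fintype F] {V : Type*} [AddCommGroup V] [Module F V]
  [FiniteDimensional F V]

open UniqueFactorizationMonoid in
open scoped Classical in
theorem dvd_of_count_le {μ R : F[X]} (hμ : μ ≠ 0) (hR : R ≠ 0)
    (h : ∀ f ∈ normalizedFactors μ, (normalizedFactors μ).count f ≤ (normalizedFactors R).count f) :
    μ ∣ R := by
  rw [dvd_iff_normalizedFactors_le_normalizedFactors hμ hR, Multiset.le_iff_count]
  intro f
  by_cases hf : f ∈ normalizedFactors μ
  · exact h f hf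
  · rw [Multiset.count_eq_zero.2 hf]; exact Nat.zero_le _

theorem minpoly_dvd_reverse (B : LinearMap.BilinForm F V) (hB : B.Nondegenerate)
    (g : Module.End F V) (hgB : ∀ x y, B (g x) (g y) = B x y) {w : ℕ} (hw : 1 ≤ w) (hgw : g ^ w = 1) :
    minpoly F g ∣ (minpoly F g).reverse := by
  obtain ⟨g', hg'⟩ : ∃ g', g' = g ^ (w - 1) := ⟨_, rfl⟩
  have hgg : g * g' = 1 := by rw [hg', ← pow_succ', Nat.sub_add_cancel hw, hgw]
  have hadj : ∀ (P : F[X]) x y, B (aeval g P x) y = B x (aeval g' P y) := by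
    intro P
    induction P using Polynomial.induction_on' with
    | add a b ha hb => intro x y; simp only [map_add, LinearMap.add_apply, ha, hb]
    | monomial i c =>
      have hi : ∀ (i : ℕ) x y, B ((g ^ i) x) y = B x ((g' ^ i) y) := by
        intro i
        induction i with
        | zero => intro x y; rfl
        | succ i ih =>
          intro x y
          rw [pow_succ, pow_succ', Module.End.mul_apply, Module.End.mul_apply, ih]
          conv_rhs => rw [← hgB]
          rw [← Module.End.mul_apply g g', hgg]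
          rfl
      intro x y
      simp only [aeval_monomial, Module.End.mul_apply, Module.algebraMap_end_apply, map_smul,
        LinearMap.smul_apply, hi]
  have h0 : aeval g ((minpoly F g).comp (X ^ (w - 1))) = 0 := by
    rw [aeval_comp, map_pow, aeval_X, ← hg']
    refine LinearMap.ext fun y => hB.2 _ fun x => ?_
    rw [← hadj, minpoly.aeval, LinearMap.zero_apply, map_zero, LinearMap.zero_apply]
  obtain ⟨μ, hμ⟩ : ∃ μ, μ = minpoly F g := ⟨_, rfl⟩
  have hμw : μ ∣ X ^ w - 1 := hμ ▸ minpoly.dvd F g (by simp [hgw])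
  have hcomp : μ ∣ μ.comp (X ^ (w - 1)) := hμ ▸ minpoly.dvd F g h0
  rw [← hμ, ← AdjoinRoot.mk_eq_zero]
  have hx : AdjoinRoot.root μ * AdjoinRoot.root μ ^ (w - 1) = 1 := by
    rw [← pow_succ', Nat.sub_add_cancel hw]
    have := AdjoinRoot.mk_eq_zero.2 hμw
    simpa [sub_eq_zero] using this
  letI : Invertible (AdjoinRoot.root μ ^ (w - 1)) :=
    ⟨AdjoinRoot.root μ, hx, by rw [mul_comm, hx]⟩
  have h := Polynomial.eval₂_reverse_mul_pow (algebraMap F (AdjoinRoot μ))
    (AdjoinRoot.root μ ^ (w - 1)) μ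
  have hinv : ⅟(AdjoinRoot.root μ ^ (w - 1)) = AdjoinRoot.root μ := rfl
  rw [hinv, ← aeval_def, ← aeval_def, AdjoinRoot.aeval_eq,
    ← aeval_X_pow (R := F) (x := AdjoinRoot.root μ), ← aeval_comp, AdjoinRoot.aeval_eq (μ.comp _),
    AdjoinRoot.mk_eq_zero.2 hcomp, aeval_X_pow] at h
  have hu : IsUnit ((AdjoinRoot.root μ ^ (w - 1)) ^ μ.natDegree) :=
    (isUnit_of_invertible _).pow _
  exact hu.mul_left_eq_zero.1 h

theorem natDegree_minpoly_lt_of_ker (g : Module.End F V)
    (h : 2 ≤ Module.finrank F (LinearMap.ker (g - 1))) :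
    (minpoly F g).natDegree < Module.finrank F V := by
  obtain ⟨R, hR⟩ : ∃ R, R = LinearMap.range (g - 1) := ⟨_, rfl⟩
  have hmap : ∀ x ∈ R, g x ∈ R := by
    subst hR
    rintro _ ⟨y, rfl⟩
    exact ⟨g y, by simp⟩
  let gR : Module.End F R := g.restrict hmap
  have hcoe : ∀ (P : F[X]) (x : R), ((aeval gR P x : R) : V) = aeval g P x := by
    intro P
    induction P using Polynomial.induction_on' with
    | add a b ha hb => intro x; simp only [map_add, LinearMap.add_apply, Submodule.coe_add, ha, hb]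
    | monomial i c =>
      have hi : ∀ (i : ℕ) (x : R), (((gR ^ i) x : R) : V) = (g ^ i) x := by
        intro i
        induction i with
        | zero => intro x; rfl
        | succ i ih =>
          intro x
          rw [pow_succ, pow_succ, Module.End.mul_apply, Module.End.mul_apply, ih]
          rfl
      intro x
      simp only [aeval_monomial, Module.End.mul_apply, Module.algebraMap_end_apply,
        Submodule.coe_smul, hi]
  have hdvd : minpoly F g ∣ minpoly F gR * (X - 1) := by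
    refine minpoly.dvd F g (LinearMap.ext fun x => ?_)
    rw [map_mul, Module.End.mul_apply, map_sub, aeval_X, map_one]
    have hx : (g - 1) x ∈ R := hR ▸ LinearMap.mem_range_self _ x
    rw [← hcoe _ ⟨(g - 1) x, hx⟩, minpoly.aeval]
    rfl
  have h1 : (minpoly F gR).natDegree ≤ Module.finrank F R := by
    rw [← LinearMap.charpoly_natDegree gR]
    exact natDegree_le_of_dvd gR.minpoly_dvd_charpoly gR.charpoly_monic.ne_zero
  have h2 := LinearMap.finrank_range_add_finrank_ker (g - 1)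
  rw [← hR] at h2
  have hne : minpoly F gR * (X - 1) ≠ 0 :=
    mul_ne_zero (minpoly.ne_zero (Algebra.IsIntegral.isIntegral gR)) isFactor_X_sub_one.1.ne_zero
  have h3 := natDegree_le_of_dvd hdvd hne
  rw [natDegree_mul (minpoly.ne_zero (Algebra.IsIntegral.isIntegral gR)) isFactor_X_sub_one.1.ne_zero,
    show (X - 1 : F[X]).natDegree = 1 by simpa using natDegree_X_sub_C (1 : F)] at h3
  omega

open UniqueFactorizationMonoid in
open scoped Classical in
/-- Every isometry satisfies `g ^ N = 1` for some maximal order `N`, and then `1 + g + ⋯ + g^(N-1) = 0`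
unless the fixed space is a line. -/
theorem exists_bound [CharP F 2] (hdim : Module.finrank F V = 8)
    (B : LinearMap.BilinForm F V) (hB : B.Nondegenerate)
    (g : Module.End F V) (hgB : ∀ x y, B (g x) (g y) = B x y) {w : ℕ} (hw : 1 ≤ w) (hgw : g ^ w = 1) :
    ∃ N ∈ entries (Fintype.card F), g ^ N = 1 ∧
      (Module.finrank F (LinearMap.ker (g - 1)) ≠ 1 → ∑ i ∈ Finset.range N, g ^ i = 0) := by
  obtain ⟨μ, hμ⟩ : ∃ μ, μ = minpoly F g := ⟨_, rfl⟩
  have hint : IsIntegral F g := Algebra.IsIntegral.isIntegral g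
  have hμm : μ.Monic := hμ ▸ minpoly.monic hint
  have hμ0 : μ ≠ 0 := hμm.ne_zero
  have hμw : μ ∣ X ^ w - 1 := hμ ▸ minpoly.dvd F g (by simp [hgw])
  have hμdeg : μ.natDegree ≤ 8 := by
    rw [← hdim, ← LinearMap.charpoly_natDegree g, hμ]
    exact natDegree_le_of_dvd g.minpoly_dvd_charpoly g.charpoly_monic.ne_zero
  obtain ⟨Φ, hΦ⟩ : ∃ Φ, Φ = normalizedFactors μ := ⟨_, rfl⟩
  have hmem : ∀ f ∈ Φ, IsFactor f ∧ f ∣ μ := by
    intro f hf
    rw [hΦ] at hf
    have hd := dvd_of_mem_normalizedFactors hf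
    have hi := irreducible_of_normalized_factor f hf
    refine ⟨⟨?_, hi, fun h0 => ?_⟩, hd⟩
    · rw [← normalize_normalized_factor f hf]
      exact Polynomial.monic_normalize hi.ne_zero
    · have h1 : X ∣ X ^ w - (1 : F[X]) := (X_dvd_iff.2 h0).trans (hd.trans hμw)
      rw [X_dvd_iff, coeff_sub, coeff_X_pow, coeff_one_zero, if_neg (by omega)] at h1
      simp at h1
  have hcount : ∀ (R : F[X]), R ≠ 0 → ∀ f : F[X], IsFactor f → ∀ k : ℕ, f ^ k ∣ R →
      k ≤ (normalizedFactors R).count f := by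
    intro R hR f hf k hk
    rw [dvd_iff_normalizedFactors_le_normalizedFactors (pow_ne_zero _ hf.1.ne_zero) hR] at hk
    have := Multiset.count_le_of_le f hk
    rwa [normalizedFactors_pow, normalizedFactors_irreducible hf.2.1, hf.1.normalize_eq_self,
      Multiset.count_nsmul, Multiset.count_singleton_self, mul_one] at this
  have hpow : ∀ f ∈ Φ, f ^ Φ.count f ∣ μ := by
    intro f hf
    rw [dvd_iff_normalizedFactors_le_normalizedFactors (pow_ne_zero _ (hmem f hf).1.1.ne_zero) hμ0,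
      normalizedFactors_pow, normalizedFactors_irreducible (hmem f hf).1.2.1,
      (hmem f hf).1.1.normalize_eq_self, ← hΦ, Multiset.nsmul_singleton, Multiset.le_iff_count]
    intro b
    rw [Multiset.count_replicate]
    split_ifs with hb
    · rw [hb]
    · exact Nat.zero_le _
  -- symmetry under reciprocals
  have hrev : Associated μ μ.reverse := by
    refine associated_of_dvd_of_natDegree_le ?_ (by rw [Ne, reverse_eq_zero]; exact hμ0)
      (reverse_natDegree_le μ)
    rw [hμ]; exact minpoly_dvd_reverse B hB g hgB hw hgw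
  have hrecip : ∀ f ∈ Φ, recip f ∈ Φ ∧ Φ.count f ≤ Φ.count (recip f) := by
    intro f hf
    have hfac := (hmem f hf).1
    obtain ⟨R, hR⟩ := hpow f hf
    have h1 : recip f ^ Φ.count f ∣ μ := by
      refine ((recip_associated hfac).pow_pow.dvd).trans (dvd_trans ?_ hrev.symm.dvd)
      conv_rhs => rw [hR, reverse_mul_of_domain]
      refine dvd_trans (dvd_of_eq ?_) (dvd_mul_right _ _)
      induction Φ.count f with
      | zero => rw [pow_zero, pow_zero, ← C_1, reverse_C]
      | succ n ih => rw [pow_succ, pow_succ, reverse_mul_of_domain, ih]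
    have h2 := hcount μ hμ0 _ hfac.recip _ h1
    rw [← hΦ] at h2
    exact ⟨Multiset.count_pos.1 (lt_of_lt_of_le (Multiset.count_pos.2 hf) h2), h2⟩
  -- degrees
  have hdegsum : μ.natDegree = ∑ f ∈ Φ.toFinset, Φ.count f * f.natDegree := by
    have hprod : Φ.prod = μ := by
      refine eq_of_monic_of_associated ?_ hμm (hΦ ▸ prod_normalizedFactors hμ0)
      have := monic_multiset_prod_of_monic Φ (fun f => f) fun f hf => (hmem f hf).1.1
      rwa [Multiset.map_id'] at this
    conv_lhs => rw [← hprod]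
    rw [natDegree_multiset_prod_of_monic _ fun f hf => (hmem f hf).1.1,
      Finset.sum_multiset_map_count]
    simp only [smul_eq_mul]
  obtain ⟨S, hS⟩ : ∃ S, S = Φ.toFinset.erase (X - 1) := ⟨_, rfl⟩
  have hSmem : ∀ f ∈ S, IsFactor f ∧ f ≠ X - 1 ∧ recip f ∈ S := by
    intro f hf
    rw [hS, Finset.mem_erase, Multiset.mem_toFinset] at hf ⊢
    exact ⟨(hmem f hf.2).1, hf.1, recip_ne_X_sub_one (hmem f hf.2).1 hf.1, (hrecip f hf.2).1⟩
  have hsplit : μ.natDegree = (∑ f ∈ S, Φ.count f * f.natDegree) + Φ.count (X - 1) := by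
    have hd1 : (X - 1 : F[X]).natDegree = 1 := by simpa using natDegree_X_sub_C (1 : F)
    by_cases h1 : (X - 1) ∈ Φ.toFinset
    · rw [hdegsum, hS, ← Finset.sum_erase_add _ _ h1, hd1, mul_one]
    · rw [hdegsum, hS, Finset.erase_eq_of_notMem h1,
        Multiset.count_eq_zero.2 (fun h => h1 (Multiset.mem_toFinset.2 h)), add_zero]
  have hpos : ∀ f ∈ S, 1 ≤ Φ.count f := by
    intro f hf
    rw [hS, Finset.mem_erase, Multiset.mem_toFinset] at hf
    exact Multiset.count_pos.2 hf.2
  have hexp : (∑ f ∈ S, Φ.count f * f.natDegree) =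
      (∑ f ∈ S, f.natDegree) + ∑ f ∈ S, (Φ.count f - 1) * f.natDegree := by
    rw [← Finset.sum_add_distrib]
    refine Finset.sum_congr rfl fun f hf => ?_
    obtain ⟨n, hn⟩ : ∃ n, Φ.count f = n + 1 := ⟨Φ.count f - 1, by have := hpos f hf; omega⟩
    rw [hn, Nat.add_sub_cancel]; ring
  obtain ⟨c, M, hc, hM, hdvd⟩ := exists_torus_exponent _ S rfl hSmem (by omega)
  have hmult : ∀ f ∈ S, 2 * (Φ.count f - 1) ≤ ∑ f ∈ S, (Φ.count f - 1) * f.natDegree := by
    intro f hf
    obtain ⟨hfac, hne, hrS⟩ := hSmem f hf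
    by_cases hself : recip f = f
    · obtain ⟨j, hj, hdj, -⟩ := dvd_X_pow_add_one_of_self hfac hne hself
      refine le_trans ?_ (Finset.single_le_sum (fun g _ => Nat.zero_le _) hf)
      rw [hdj, mul_comm (Φ.count f - 1)]
      exact Nat.mul_le_mul_right _ (by omega)
    · refine le_trans ?_ (Finset.sum_le_sum_of_subset (s := {f, recip f}) (fun g hg => by
        simp only [Finset.mem_insert, Finset.mem_singleton] at hg
        rcases hg with rfl | rfl
        exacts [hf, hrS]))
      rw [Finset.sum_pair (Ne.symm hself), recip_natDegree hfac]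
      have h1 := hfac.2.1.natDegree_pos
      have h2 : Φ.count f - 1 ≤ Φ.count (recip f) - 1 := by
        have := (hrecip f (by rw [hS, Finset.mem_erase, Multiset.mem_toFinset] at hf; exact hf.2)).2
        omega
      calc 2 * (Φ.count f - 1) = (Φ.count f - 1) * 1 + (Φ.count f - 1) * 1 := by ring
        _ ≤ _ := add_le_add (Nat.mul_le_mul_left _ h1) (Nat.mul_le_mul h2 h1)
  have hc4 : c ≤ 4 := by omega
  obtain ⟨t, ht, ht2, ht0⟩ : ∃ t, twoPart c = 2 ^ t ∧ (8 - 2 * c ≤ 2 ^ t) ∧ (c = 4 → 2 ^ t = 1) := by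
    rcases (show c = 0 ∨ c = 1 ∨ c = 2 ∨ c = 3 ∨ c = 4 by omega) with rfl | rfl | rfl | rfl | rfl
    exacts [⟨3, rfl, by norm_num, by norm_num⟩, ⟨3, rfl, by norm_num, by norm_num⟩,
      ⟨2, rfl, by norm_num, by norm_num⟩, ⟨1, rfl, by norm_num, by norm_num⟩,
      ⟨0, rfl, by norm_num, by norm_num⟩]
  have h1t : Φ.count (X - 1) ≤ 2 ^ t := by omega
  have hmt : ∀ f ∈ S, Φ.count f ≤ 2 ^ t := by
    intro f hf
    have h := hmult f hf
    have := Nat.one_le_two_pow (n := t)
    omega
  -- the exponent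
  have hq : Even (Fintype.card F) := Nat.even_iff.2 (FiniteField.even_card_of_char_two (ringChar.eq F 2))
  have hModd : Odd M := odd_of_mem_torusList hq Fintype.one_lt_card hM
  have hM1 : (M : F) = 1 := by
    obtain ⟨j, rfl⟩ := hModd
    push_cast
    rw [CharTwo.two_eq_zero, zero_mul, zero_add]
  obtain ⟨N, hN, hNd⟩ := exists_mem_entries hc4 hM
  rw [ht] at hNd
  obtain ⟨k, hk⟩ := hNd
  obtain ⟨R, hR⟩ : ∃ R : F[X], R = ∑ i ∈ Finset.range M, X ^ i := ⟨_, rfl⟩
  have hgeom : R * (X - 1) = X ^ M - 1 := hR ▸ geom_sum_mul X M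
  have hR0 : R ≠ 0 := by
    intro h0
    have := congrArg (Polynomial.eval 1) hR
    simp [h0, hM1] at this
  have hX0 : (X - 1 : F[X]) ≠ 0 := isFactor_X_sub_one.1.ne_zero
  have hRS : ∀ f ∈ S, f ∣ R := by
    intro f hf
    have h := hdvd f hf
    rw [← hgeom] at h
    rcases (hSmem f hf).1.2.1.prime.dvd_or_dvd h with h | h
    · exact h
    · exact absurd (eq_of_monic_of_associated (hSmem f hf).1.1 isFactor_X_sub_one.1
        ((hSmem f hf).1.2.1.associated_of_dvd isFactor_X_sub_one.2.1 h)) (hSmem f hf).2.1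
  have hdiv : ∀ e, Φ.count (X - 1) ≤ e → μ ∣ (X - 1) ^ e * R ^ 2 ^ t := by
    intro e he
    have hne : (X - 1) ^ e * R ^ 2 ^ t ≠ (0 : F[X]) := mul_ne_zero (pow_ne_zero _ hX0) (pow_ne_zero _ hR0)
    refine dvd_of_count_le hμ0 hne fun f hf => ?_
    rw [← hΦ] at hf ⊢
    refine hcount _ hne f (hmem f hf).1 _ ?_
    by_cases h1 : f = X - 1
    · subst h1
      exact (pow_dvd_pow _ he).trans (dvd_mul_right _ _)
    · have hfS : f ∈ S := by rw [hS, Finset.mem_erase, Multiset.mem_toFinset]; exact ⟨h1, hf⟩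
      exact ((pow_dvd_pow _ (hmt f hfS)).trans (pow_dvd_pow_of_dvd (hRS f hfS) _)).trans
        (dvd_mul_left _ _)
  haveI : CharP F[X] 2 := inferInstance
  have hX : (X - 1) ^ (2 ^ t) * R ^ 2 ^ t = (X : F[X]) ^ (2 ^ t * M) - 1 := by
    rw [← mul_pow, mul_comm (X - 1 : F[X]), hgeom, sub_pow_char_pow, one_pow, ← pow_mul, mul_comm M]
  have hg1 : g ^ (2 ^ t * M) = 1 := by
    obtain ⟨Z, hZ⟩ := hdiv _ h1t
    have h := congrArg (aeval g) hZ
    rw [map_mul (aeval g) μ, hμ, minpoly.aeval, zero_mul, hX, map_sub, map_pow, aeval_X, map_one,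
      sub_eq_zero] at h
    exact h
  refine ⟨N, hN, by rw [hk, pow_mul, hg1, one_pow], fun hker => ?_⟩
  have hlt : Φ.count (X - 1) < 2 ^ t := by
    by_contra hcon
    have h8 : μ.natDegree = Module.finrank F V := by
      have := Nat.one_le_two_pow (n := t)
      omega
    by_cases h2 : 2 ≤ Module.finrank F (LinearMap.ker (g - 1))
    · exact absurd h8 (Nat.ne_of_lt (hμ ▸ natDegree_minpoly_lt_of_ker g h2))
    · -- a root one of the minimal polynomial gives a fixed vector
      have hmem1 : (X - 1 : F[X]) ∈ Φ :=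
        Multiset.count_pos.1 (by have := Nat.one_le_two_pow (n := t); omega)
      obtain ⟨Z, hZ⟩ := (hmem _ hmem1).2
      have hbot : LinearMap.ker (g - 1) = ⊥ := by
        rw [← Submodule.finrank_eq_zero]; omega
      have hZ0 : aeval g Z = 0 := by
        refine LinearMap.ext fun x => ?_
        have h := congrArg (fun P => aeval g P x) hZ
        simp only [map_mul, Module.End.mul_apply, map_sub, aeval_X, map_one] at h
        rw [hμ, minpoly.aeval, LinearMap.zero_apply] at h
        have hx : aeval g Z x ∈ LinearMap.ker (g - 1) := LinearMap.mem_ker.2 h.symm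
        rw [hbot, Submodule.mem_bot] at hx
        exact hx
      have hd := hμ ▸ minpoly.dvd F g hZ0
      have hZne : Z ≠ 0 := fun h0 => hμ0 (by rw [hZ, h0, mul_zero])
      have hle := natDegree_le_of_dvd hd hZne
      rw [hZ, natDegree_mul hX0 hZne,
        show (X - 1 : F[X]).natDegree = 1 by simpa using natDegree_X_sub_C (1 : F)] at hle
      omega
  have hsum1 : ∑ i ∈ Finset.range (2 ^ t * M), g ^ i = 0 := by
    obtain ⟨Z, hZ⟩ := hdiv (2 ^ t - 1) (by omega)
    have hgeom' : (∑ i ∈ Finset.range (2 ^ t * M), (X : F[X]) ^ i) = (X - 1) ^ (2 ^ t - 1) * R ^ 2 ^ t := by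
      apply mul_right_cancel₀ hX0
      rw [geom_sum_mul, ← hX]
      obtain ⟨a, ha⟩ : ∃ a, 2 ^ t = a + 1 := ⟨2 ^ t - 1, by have := Nat.one_le_two_pow (n := t); omega⟩
      rw [ha, Nat.add_sub_cancel, pow_succ (X - 1 : F[X]) a]
      ring
    have h := congrArg (aeval g) hgeom'
    rw [hZ, map_mul (aeval g) μ, hμ, minpoly.aeval, zero_mul, map_sum] at h
    simpa using h
  rw [hk]
  clear hk
  induction k with
  | zero => simp
  | succ k ih =>
    rw [mul_add, mul_one, Finset.sum_range_add, ih, zero_add]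
    simp only [pow_add]
    rw [← Finset.mul_sum, hsum1, mul_zero]

end bound

end CfsgLib.Spectrum.EightEven
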