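import Cfsg.Agent.Lib.Orth.Reflection
import Cfsg.Agent.Lib.RootCount.QuadType
import Cfsg.Agent.Lib.Classical.Quad.Model
import Cfsg.Agent.Lib.Spectrum.OrthOddMixed

/-!
Small non-degenerate quadratic spaces in characteristic two with known type and with isometries of
prescribed orders.
-/

set_option autoImplicit false
set_option linter.unusedSectionVars false
set_option linter.style.haveILetI false

namespace CfsgLib.Spectrum.EightEven

open Module QuadraticMap
open CfsgLib.Classical.Quad (NDPolar Orth binForm binForm_apply polar_binForm orth_ext)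
open CfsgLib.Orth (moved subOne subOne_apply)

variable {F : Type*} [Field F] {V : Type*} [AddCommGroup V] [Module F V]
variable {V₁ V₂ : Type*} [AddCommGroup V₁] [Module F V₁] [AddCommGroup V₂] [Module F V₂]

/-- The number of zeros exceeds each other fibre by `e`. -/
def HasExcess (Q : QuadraticForm F V) (e : ℤ) : Prop :=
  ∀ c : F, c ≠ 0 → (Nat.card {x // Q x = 0} : ℤ) = Nat.card {x // Q x = c} + e

theorem HasExcess.unique {Q : QuadraticForm F V} {e e' : ℤ} (h : HasExcess Q e)
    (h' : HasExcess Q e') : e = e' := by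
  have h1 := h 1 one_ne_zero
  have h2 := h' 1 one_ne_zero
  omega

theorem HasExcess.of_equiv {Q : QuadraticForm F V} {e : ℤ} (h : HasExcess Q e) {V' : Type*}
    [AddCommGroup V'] [Module F V'] {Q' : QuadraticForm F V'} (E : V' ≃ₗ[F] V)
    (hE : ∀ x, Q (E x) = Q' x) : HasExcess Q' e := by
  intro c hc
  have hcard : ∀ d, Nat.card {x // Q' x = d} = Nat.card {x // Q x = d} := fun d =>
    Nat.card_congr (E.toEquiv.subtypeEquiv fun x => by simp [hE])
  rw [hcard, hcard]
  exact h c hc

theorem HasExcess.prod [Fintype F] [Finite V₁] [Finite V₂] {Q₁ : QuadraticForm F V₁}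
    {Q₂ : QuadraticForm F V₂} {e₁ e₂ : ℤ} (h₁ : HasExcess Q₁ e₁) (h₂ : HasExcess Q₂ e₂) :
    HasExcess (Q₁.prod Q₂) (e₁ * e₂) := by
  classical
  intro c hc
  obtain ⟨f₁, hf₁⟩ : ∃ f : F → ℤ, ∀ d, f d = Nat.card {x // Q₁ x = d} := ⟨_, fun _ => rfl⟩
  obtain ⟨f₂, hf₂⟩ : ∃ f : F → ℤ, ∀ d, f d = Nat.card {x // Q₂ x = d} := ⟨_, fun _ => rfl⟩
  have hconv : ∀ d, (Nat.card {x // Q₁.prod Q₂ x = d} : ℤ) = ∑ a : F, f₁ a * f₂ (d - a) := by
    intro d
    rw [Nat.card_congr (α := {x // Q₁.prod Q₂ x = d})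
      (β := Σ a : F, {x // Q₁ x = a} × {y // Q₂ y = d - a})
      { toFun := fun x => ⟨Q₁ x.1.1, ⟨x.1.1, rfl⟩, ⟨x.1.2, by
          rw [eq_sub_iff_add_eq, add_comm, ← QuadraticMap.prod_apply]; exact x.2⟩⟩
        invFun := fun z => ⟨(z.2.1.1, z.2.2.1), by
          rw [QuadraticMap.prod_apply, z.2.1.2, z.2.2.2, add_sub_cancel]⟩
        left_inv := fun x => rfl
        right_inv := fun z => by
          obtain ⟨a, ⟨x, hx⟩, y, hy⟩ := z
          subst hx
          rfl }, Nat.card_sigma, Nat.cast_sum]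
    exact Finset.sum_congr rfl fun a _ => by rw [Nat.card_prod, hf₁, hf₂, Nat.cast_mul]
  have e₁' : ∀ d, d ≠ 0 → f₁ d = f₁ 0 - e₁ := fun d hd => by rw [hf₁, hf₁, h₁ d hd]; ring
  have e₂' : ∀ d, d ≠ 0 → f₂ d = f₂ 0 - e₂ := fun d hd => by rw [hf₂, hf₂, h₂ d hd]; ring
  rw [hconv, hconv, ← sub_eq_iff_eq_add', ← Finset.sum_sub_distrib,
    Finset.sum_eq_add_of_mem (0 : F) c (Finset.mem_univ _) (Finset.mem_univ _) (Ne.symm hc)
      fun a _ ha => by
        rw [e₂' (0 - a) (by simpa using ha.1), e₂' (c - a) (sub_ne_zero.2 (Ne.symm ha.2)), sub_self]]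
  rw [sub_self, sub_zero, sub_self, e₁' c hc, e₂' c hc, e₂' (0 - c) (by simpa using hc)]
  ring

theorem ndPolar_prod {Q₁ : QuadraticForm F V₁} {Q₂ : QuadraticForm F V₂} (h₁ : NDPolar Q₁)
    (h₂ : NDPolar Q₂) : NDPolar (Q₁.prod Q₂) := by
  intro x hx
  refine Prod.ext (h₁ _ fun y => ?_) (h₂ _ fun y => ?_)
  · simpa [polar] using hx (y, 0)
  · simpa [polar] using hx (0, y)

/-- The isometries of the orthogonal sum of two spaces. -/
def prodOrth {Q₁ : QuadraticForm F V₁} {Q₂ : QuadraticForm F V₂} :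
    Orth Q₁ × Orth Q₂ →* Orth (Q₁.prod Q₂) where
  toFun g := ⟨g.1.1.prodCongr g.2.1, fun x => by
    simp only [QuadraticMap.prod_apply]
    exact congrArg₂ (· + ·) (g.1.2 _) (g.2.2 _)⟩
  map_one' := orth_ext fun _ => rfl
  map_mul' _ _ := orth_ext fun _ => rfl

theorem prodOrth_injective {Q₁ : QuadraticForm F V₁} {Q₂ : QuadraticForm F V₂} :
    Function.Injective (prodOrth (Q₁ := Q₁) (Q₂ := Q₂)) := by
  intro g h e
  refine Prod.ext (orth_ext fun x => ?_) (orth_ext fun x => ?_)
  · exact congrArg Prod.fst (congrArg (fun k : Orth (Q₁.prod Q₂) => k.1 (x, 0)) e)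
  · exact congrArg Prod.snd (congrArg (fun k : Orth (Q₁.prod Q₂) => k.1 (0, x)) e)

theorem moved_prodOrth [FiniteDimensional F V₁] [FiniteDimensional F V₂] {Q₁ : QuadraticForm F V₁}
    {Q₂ : QuadraticForm F V₂} (g : Orth Q₁) (h : Orth Q₂) :
    moved (prodOrth (g, h)) = moved g + moved h := by
  have hrange : LinearMap.range (subOne (prodOrth (g, h))) =
      (LinearMap.range (subOne g)).prod (LinearMap.range (subOne h)) := by
    rw [← LinearMap.range_prodMap]
    congr 1
  rw [moved, hrange]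
  let ep : ↥((LinearMap.range (subOne g)).prod (LinearMap.range (subOne h))) ≃ₗ[F]
      LinearMap.range (subOne g) × LinearMap.range (subOne h) :=
    { toFun := fun x => (⟨x.1.1, x.2.1⟩, ⟨x.1.2, x.2.2⟩)
      invFun := fun x => ⟨(x.1.1, x.2.1), x.1.2, x.2.2⟩
      map_add' := fun _ _ => rfl
      map_smul' := fun _ _ => rfl
      left_inv := fun _ => rfl
      right_inv := fun _ => rfl }
  rw [ep.finrank_eq, finrank_prod]
  rfl

/-- An isometry from a linear map which preserves a non-degenerate form. -/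
noncomputable def mkOrth [FiniteDimensional F V] {Q : QuadraticForm F V} (hnd : NDPolar Q)
    (f : V →ₗ[F] V) (hf : ∀ x, Q (f x) = Q x) : Orth Q :=
  ⟨LinearEquiv.ofInjectiveEndo f (by
    rw [injective_iff_map_eq_zero]
    intro x hx
    refine hnd x fun y => ?_
    rw [polar, ← hf (x + y), ← hf x, ← hf y, map_add, hx, zero_add, QuadraticMap.map_zero]
    ring), hf⟩

@[simp] theorem mkOrth_apply [FiniteDimensional F V] {Q : QuadraticForm F V} (hnd : NDPolar Q)
    (f : V →ₗ[F] V) (hf : ∀ x, Q (f x) = Q x) (x : V) : (mkOrth hnd f hf).1 x = f x := rfl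

/-- The sum of the first `k` powers of an isometry, applied to a vector. -/
def powSum {Q : QuadraticForm F V} (g : Orth Q) (k : ℕ) (w : V) : V :=
  ∑ i ∈ Finset.range k, (g ^ i).1 w

/-- A non-degenerate space of dimension `n` and excess `e` with an isometry of order `N`. -/
def Realizes (F : Type*) [Field F] (n : ℕ) (e : ℤ) (N : ℕ) : Prop :=
  ∃ Q : QuadraticForm F (Fin n → F), NDPolar Q ∧ HasExcess Q e ∧ ∃ g : Orth Q, orderOf g = N

/-- As `Realizes`, the isometry moving an even-dimensional space and having non-zero norm map. -/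
def RealizesX (F : Type*) [Field F] (n : ℕ) (e : ℤ) (N : ℕ) : Prop :=
  ∃ Q : QuadraticForm F (Fin n → F), NDPolar Q ∧ HasExcess Q e ∧
    ∃ g : Orth Q, Even (moved g) ∧ orderOf g = N ∧ ∃ w, powSum g N w ≠ 0

section transport

variable {V' : Type*} [AddCommGroup V'] [Module F V'] {Q : QuadraticForm F V}

/-- Transport of isometries along an isometric equivalence. -/
def conjOrth {Q' : QuadraticForm F V'} (E : V' ≃ₗ[F] V) (hE : ∀ x, Q (E x) = Q' x) :
    Orth Q →* Orth Q' where
  toFun g := ⟨(E.trans g.1).trans E.symm, fun x => by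
    show Q' (E.symm (g.1 (E x))) = Q' x
    rw [← hE, LinearEquiv.apply_symm_apply, g.2, hE]⟩
  map_one' := orth_ext fun x => E.symm_apply_apply x
  map_mul' g h := orth_ext fun x => by
    show E.symm (g.1 (h.1 (E x))) = E.symm (g.1 (E (E.symm (h.1 (E x)))))
    rw [LinearEquiv.apply_symm_apply]

theorem conjOrth_apply {Q' : QuadraticForm F V'} (E : V' ≃ₗ[F] V) (hE : ∀ x, Q (E x) = Q' x)
    (g : Orth Q) (x : V') : (conjOrth E hE g).1 x = E.symm (g.1 (E x)) := rfl

theorem conjOrth_injective {Q' : QuadraticForm F V'} (E : V' ≃ₗ[F] V) (hE : ∀ x, Q (E x) = Q' x) :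
    Function.Injective (conjOrth (Q := Q) E hE) := by
  intro g h e
  refine orth_ext fun x => ?_
  simpa [conjOrth_apply] using congrArg (fun k : Orth Q' => k.1 (E.symm x)) e

theorem moved_conjOrth [FiniteDimensional F V] {Q' : QuadraticForm F V'} (E : V' ≃ₗ[F] V)
    (hE : ∀ x, Q (E x) = Q' x) (g : Orth Q) : moved (conjOrth E hE g) = moved g := by
  have hrange : LinearMap.range (subOne (conjOrth E hE g)) =
      (LinearMap.range (subOne g)).map (E.symm : V →ₗ[F] V') := by
    have he : subOne (conjOrth E hE g) = (E.symm : V →ₗ[F] V') ∘ₗ subOne g ∘ₗ (E : V' →ₗ[F] V) :=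
      LinearMap.ext fun x => by simp [conjOrth_apply]
    rw [he, LinearMap.range_comp, LinearMap.range_comp_of_range_eq_top _ E.range]
  rw [moved, hrange, LinearEquiv.finrank_map_eq]
  rfl

theorem powSum_conjOrth {Q' : QuadraticForm F V'} (E : V' ≃ₗ[F] V) (hE : ∀ x, Q (E x) = Q' x)
    (g : Orth Q) (k : ℕ) (x : V') : powSum (conjOrth E hE g) k x = E.symm (powSum g k (E x)) := by
  rw [powSum, powSum, map_sum]
  exact Finset.sum_congr rfl fun i _ => by rw [← map_pow, conjOrth_apply]

theorem NDPolar.of_equiv (h : NDPolar Q) {Q' : QuadraticForm F V'} (E : V' ≃ₗ[F] V)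
    (hE : ∀ x, Q (E x) = Q' x) : NDPolar Q' := by
  intro x hx
  refine E.map_eq_zero_iff.1 (h _ fun y => ?_)
  have := hx (E.symm y)
  rw [polar, ← hE, ← hE, ← hE, map_add, LinearEquiv.apply_symm_apply] at this
  exact this

theorem exists_pack [FiniteDimensional F V] {n : ℕ} (hdim : finrank F V = n)
    (Q : QuadraticForm F V) :
    ∃ (Q' : QuadraticForm F (Fin n → F)) (E : (Fin n → F) ≃ₗ[F] V), ∀ x, Q (E x) = Q' x :=
  let E : (Fin n → F) ≃ₗ[F] V := LinearEquiv.ofFinrankEq _ _ (by simp [hdim])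
  ⟨Q.comp (E : (Fin n → F) →ₗ[F] V), E, fun _ => rfl⟩

theorem Realizes.mk' [FiniteDimensional F V] {n : ℕ} {e : ℤ} {N : ℕ} (hdim : finrank F V = n)
    (hnd : NDPolar Q) (he : HasExcess Q e) (g : Orth Q) (hg : orderOf g = N) : Realizes F n e N := by
  obtain ⟨Q', E, hE⟩ := exists_pack hdim Q
  exact ⟨Q', NDPolar.of_equiv hnd E hE, he.of_equiv E hE, conjOrth E hE g,
    (orderOf_injective _ (conjOrth_injective E hE) g).trans hg⟩

theorem RealizesX.mk' [FiniteDimensional F V] {n : ℕ} {e : ℤ} {N : ℕ} (hdim : finrank F V = n)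
    (hnd : NDPolar Q) (he : HasExcess Q e) (g : Orth Q) (hev : Even (moved g)) (hg : orderOf g = N)
    {w : V} (hw : powSum g N w ≠ 0) : RealizesX F n e N := by
  obtain ⟨Q', E, hE⟩ := exists_pack hdim Q
  refine ⟨Q', NDPolar.of_equiv hnd E hE, he.of_equiv E hE, conjOrth E hE g, by rwa [moved_conjOrth],
    (orderOf_injective _ (conjOrth_injective E hE) g).trans hg, E.symm w, ?_⟩
  rwa [powSum_conjOrth, LinearEquiv.apply_symm_apply, Ne, LinearEquiv.map_eq_zero_iff]

end transport

/-! ### Combinations -/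

theorem Realizes.prod [Fintype F] {n₁ n₂ N₁ N₂ : ℕ} {e₁ e₂ : ℤ} (h₁ : Realizes F n₁ e₁ N₁)
    (h₂ : Realizes F n₂ e₂ N₂) : Realizes F (n₁ + n₂) (e₁ * e₂) (Nat.lcm N₁ N₂) := by
  obtain ⟨Q₁, hn₁, he₁, g, hg⟩ := h₁
  obtain ⟨Q₂, hn₂, he₂, h, hh⟩ := h₂
  refine Realizes.mk' (by simp) (ndPolar_prod hn₁ hn₂) (he₁.prod he₂) (prodOrth (g, h)) ?_
  rw [orderOf_injective _ prodOrth_injective, Prod.orderOf, hg, hh]

theorem powSum_prodOrth {Q₁ : QuadraticForm F V₁} {Q₂ : QuadraticForm F V₂} (g : Orth Q₁)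
    (h : Orth Q₂) (k : ℕ) (w : V₂) :
    powSum (prodOrth (g, h)) k (0, w) = (0, powSum h k w) := by
  induction k with
  | zero => simp [powSum]; rfl
  | succ k ih =>
    simp only [powSum, Finset.sum_range_succ] at ih ⊢
    rw [ih, ← map_pow]
    refine Prod.ext ?_ rfl
    show 0 + ((g ^ k).1 : V₁ ≃ₗ[F] V₁) 0 = 0
    rw [map_zero, add_zero]

theorem powSum_mul {Q : QuadraticForm F V} (g : Orth Q) {k : ℕ} (hg : g ^ k = 1) (m : ℕ) (w : V) :
    powSum g (k * m) w = m • powSum g k w := by
  induction m with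
  | zero => simp [powSum]
  | succ m ih =>
    rw [powSum, mul_add, mul_one, Finset.sum_range_add, succ_nsmul]
    refine congrArg₂ (· + ·) ih (Finset.sum_congr rfl fun i _ => ?_)
    rw [pow_add, pow_mul, hg, one_pow, one_mul]

/-- An odd-order isometry added to an even one with non-zero norm map. -/
theorem RealizesX.prod [Fintype F] [CharP F 2] {n₁ n₂ M k : ℕ} {e₁ e₂ : ℤ} (hM : Odd M)
    (hco : M.Coprime k) (hn : n₁ + n₂ ≠ 4) (h₁ : Realizes F n₁ e₁ M) (h₂ : RealizesX F n₂ e₂ k) :
    RealizesX F (n₁ + n₂) (e₁ * e₂) (M * k) := by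
  obtain ⟨Q₁, hn₁, he₁, g, hg⟩ := h₁
  obtain ⟨Q₂, hn₂, he₂, h, hev, hh, w, hw⟩ := h₂
  have hnd := ndPolar_prod hn₁ hn₂
  have hgen := CfsgLib.Orth.closure_refl hnd (Or.inr (by simpa using hn))
  refine RealizesX.mk' (by simp) hnd (he₁.prod he₂) (prodOrth (g, h)) ?_ ?_ (w := (0, w)) ?_
  · rw [moved_prodOrth]
    refine Even.add ?_ hev
    have hz : (CfsgLib.Orth.dickson hnd hgen) (prodOrth (g, 1)) = 1 := by
      rw [← orderOf_eq_one_iff]
      refine Nat.eq_one_of_dvd_coprimes (hM.coprime_two_right) ?_ ?_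
      · refine (orderOf_map_dvd _ _).trans ?_
        rw [orderOf_injective _ prodOrth_injective, Prod.orderOf, hg, orderOf_one, Nat.lcm_one_right]
      · have h2 := orderOf_dvd_natCard ((CfsgLib.Orth.dickson hnd hgen) (prodOrth (g, 1)))
        rwa [show Nat.card (Multiplicative (ZMod 2)) = 2 by simp] at h2
    have hz' : (moved (prodOrth (g, (1 : Orth Q₂))) : ZMod 2) = 0 := ofAdd_eq_one.1 hz
    rwa [moved_prodOrth, CfsgLib.Orth.moved_one, add_zero, ZMod.natCast_eq_zero_iff_even] at hz'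
  · rw [orderOf_injective _ prodOrth_injective, Prod.orderOf, hg, hh, hco.lcm_eq_mul]
  · rw [powSum_prodOrth, mul_comm M, powSum_mul h (hh ▸ pow_orderOf_eq_one h), Ne, Prod.mk_eq_zero,
      not_and]
    intro _
    obtain ⟨j, rfl⟩ := hM
    rw [← Nat.cast_smul_eq_nsmul F, Nat.cast_add, Nat.cast_mul, Nat.cast_ofNat, CharTwo.two_eq_zero,
      zero_mul, zero_add, Nat.cast_one, one_smul]
    exact hw

/-! ### Split forms -/

/-- The form given by a bilinear pairing. -/
def pairForm {X Y : Type*} [AddCommGroup X] [Module F X] [AddCommGroup Y] [Module F Y]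
    (B : X →ₗ[F] Y →ₗ[F] F) : QuadraticForm F (X × Y) :=
  LinearMap.BilinMap.toQuadraticMap (B.compl₁₂ (LinearMap.fst F X Y) (LinearMap.snd F X Y))

section pairing

variable {X Y : Type*} [AddCommGroup X] [Module F X] [AddCommGroup Y] [Module F Y]
variable {B : X →ₗ[F] Y →ₗ[F] F}

theorem pairForm_apply (v : X × Y) : pairForm B v = B v.1 v.2 := rfl

theorem ndPolar_pairForm (hl : ∀ x, (∀ y, B x y = 0) → x = 0) (hr : ∀ y, (∀ x, B x y = 0) → y = 0) :
    NDPolar (pairForm B) := by
  rintro ⟨x, y⟩ h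
  refine Prod.ext (hl x fun y' => ?_) (hr y fun x' => ?_)
  · simpa [polar, pairForm_apply] using h (0, y')
  · simpa [polar, pairForm_apply] using h (x', 0)

theorem hasExcess_pairForm [Finite X] [Finite Y] (hl : ∀ x, (∀ y, B x y = 0) → x = 0) :
    HasExcess (pairForm B) (Nat.card Y) := by
  classical
  cases nonempty_fintype X
  intro c hc
  have hsig : ∀ d, Nat.card {v : X × Y // pairForm B v = d} =
      ∑ x : X, Nat.card {y // B x y = d} := fun d => by
    rw [← Nat.card_sigma]
    exact Nat.card_congr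
      { toFun := fun v => ⟨v.1.1, v.1.2, v.2⟩
        invFun := fun z => ⟨(z.1, z.2.1), z.2.2⟩
        left_inv := fun _ => rfl
        right_inv := fun _ => rfl }
  rw [hsig, hsig, Nat.cast_sum, Nat.cast_sum, ← sub_eq_iff_eq_add', ← Finset.sum_sub_distrib,
    Finset.sum_eq_single (0 : X)]
  · have h0 : Nat.card {y : Y // (B 0) y = 0} = Nat.card Y :=
      Nat.card_congr (Equiv.subtypeUnivEquiv fun y => by simp)
    have h1 : Nat.card {y : Y // (B 0) y = c} = 0 := by
      rw [Nat.card_eq_zero]; left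
      exact ⟨fun y => hc (by simpa using y.2.symm)⟩
    rw [h0, h1, Nat.cast_zero, sub_zero]
  · intro x _ hx
    obtain ⟨y, hy⟩ : ∃ y, B x y ≠ 0 := by
      by_contra hcon
      push Not at hcon
      exact hx (hl x hcon)
    have hy' : B x ((c / B x y) • y) = c := by
      rw [map_smul, smul_eq_mul, div_mul_cancel₀ _ hy]
    rw [sub_eq_zero]
    exact congrArg _ (Nat.card_congr (Equiv.subtypeEquiv (Equiv.addRight ((c / B x y) • y))
      fun z => by simp [hy']))
  · simp

end pairing

variable [Fintype F]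

/-- The hyperbolic plane. -/
def hypPlane (F : Type*) [Field F] : QuadraticForm F (F × F) := pairForm (LinearMap.mul F F)

theorem ndPolar_hypPlane : NDPolar (hypPlane F) :=
  ndPolar_pairForm (fun x h => by simpa using h 1) (fun y h => by simpa using h 1)

theorem hasExcess_hypPlane : HasExcess (hypPlane F) (Fintype.card F) := by
  have := hasExcess_pairForm (B := LinearMap.mul F F) fun x h => by simpa using h 1
  rwa [Nat.card_eq_fintype_card] at this

variable [CharP F 2]

theorem card_level_eq [Finite V] (Q : QuadraticForm F V) {c : F} (hc : c ≠ 0) :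
    Nat.card {x // Q x = c} = Nat.card {x // Q x = 1} := by
  obtain ⟨s, hs⟩ := FiniteField.isSquare_of_char_two (ringChar.eq F 2) c
  have hs0 : s ≠ 0 := fun h => hc (by rw [hs, h, mul_zero])
  symm
  refine Nat.card_congr ((Equiv.subtypeEquiv (LinearEquiv.smulOfNeZero F V s hs0).toEquiv) fun x => ?_)
  show Q x = 1 ↔ Q (s • x) = c
  rw [QuadraticMap.map_smul, smul_eq_mul, ← hs]
  exact ⟨fun h => by rw [h, mul_one], fun h => mul_left_cancel₀ hc (by rw [h, mul_one])⟩

/-- The excess from the number of zeros. -/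
theorem hasExcess_of_zeros [Finite V] (Q : QuadraticForm F V) {e : ℤ}
    (h : (Fintype.card F : ℤ) * Nat.card {x // Q x = 0} = Nat.card V + (Fintype.card F - 1) * e) :
    HasExcess Q e := by
  classical
  intro c hc
  rw [card_level_eq Q hc]
  have htot : Nat.card V =
      Nat.card {x // Q x = 0} + (Fintype.card F - 1) * Nat.card {x // Q x = 1} := by
    rw [← Nat.card_congr (Equiv.sigmaFiberEquiv (fun x => Q x)), Nat.card_sigma,
      ← Finset.add_sum_erase _ _ (Finset.mem_univ (0 : F)),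
      Finset.sum_congr rfl (fun d hd => card_level_eq Q (Finset.ne_of_mem_erase hd)),
      Finset.sum_const, Finset.card_erase_of_mem (Finset.mem_univ _), Finset.card_univ, smul_eq_mul]
  have hq := Fintype.one_lt_card (α := F)
  rw [htot, Nat.cast_add, Nat.cast_mul, Nat.cast_sub hq.le, Nat.cast_one] at h
  refine mul_left_cancel₀ (show ((Fintype.card F : ℤ) - 1) ≠ 0 by omega) ?_
  linear_combination h

/-- The plane `z₀² + z₀ z₁ + b z₁²`. -/
def plane (b : F) : QuadraticForm F (Fin 2 → F) := binForm 1 b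

theorem plane_apply (b : F) (v : Fin 2 → F) :
    plane b v = v 0 * v 0 + v 0 * v 1 + b * (v 1 * v 1) := by
  rw [plane, binForm_apply]; ring

theorem ndPolar_plane (b : F) : NDPolar (plane b) := by
  intro u hu
  have h0 := hu ![1, 0]
  have h1 := hu ![0, 1]
  simp [plane, polar_binForm, CharTwo.two_eq_zero] at h0 h1
  funext i
  fin_cases i
  · exact h1
  · exact h0

/-- Both types occur. -/
theorem exists_plane {s : ℤ} (hs : s = 1 ∨ s = -1) :
    ∃ b : F, HasExcess (plane b) (s * Fintype.card F) := by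
  rcases hs with rfl | rfl
  · refine ⟨0, ?_⟩
    rw [one_mul]
    let E : (Fin 2 → F) ≃ₗ[F] F × F :=
      { toFun := fun v => (v 0, v 0 + v 1)
        invFun := fun p => ![p.1, p.1 + p.2]
        left_inv := fun v => by
          funext i
          fin_cases i
          · rfl
          · simp [← add_assoc, CharTwo.add_self_eq_zero]
        right_inv := fun p => by simp [← add_assoc, CharTwo.add_self_eq_zero]
        map_add' := fun u v => by simp [add_add_add_comm]
        map_smul' := fun c v => by simp [mul_add] }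
    refine hasExcess_hypPlane.of_equiv E fun v => ?_
    show v 0 * (v 0 + v 1) = plane 0 v
    rw [plane_apply]; ring
  · obtain ⟨a, b, hab⟩ := CfsgLib.RootCount.exists_aniso (F := F)
    have ha : a ≠ 0 := CfsgLib.OrthCrit.a_ne_zero_of_anisotropic hab CharTwo.two_eq_zero
    refine ⟨b / a ^ 2, hasExcess_of_zeros _ ?_⟩
    have hzero : ∀ v, plane (b / a ^ 2) v = 0 → v = 0 := fun v hv => by
      have h := hab (v 0) (v 1 / a) (by rw [plane_apply] at hv; field_simp at hv ⊢; linear_combination hv)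
      funext i
      fin_cases i
      · exact h.1
      · simpa [ha] using h.2
    have h1 : Nat.card {v // plane (b / a ^ 2) v = 0} = 1 :=
      Nat.card_eq_one_iff_unique.2 ⟨⟨fun x y => Subtype.ext (by rw [hzero _ x.2, hzero _ y.2])⟩,
        ⟨⟨0, QuadraticMap.map_zero _⟩⟩⟩
    rw [h1, Nat.card_fun, Nat.card_fin, Nat.card_eq_fintype_card]
    push_cast
    ring

/-! ### The semisimple pieces -/

theorem realizes_torus_split {d : ℕ} (hd : 1 ≤ d) :
    Realizes F (2 * d) ((Fintype.card F : ℤ) ^ d) (Fintype.card F ^ d - 1) := by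
  haveI : NeZero d := ⟨by omega⟩
  haveI : Fact (Nat.Prime 2) := ⟨Nat.prime_two⟩
  let K := FiniteField.Extension F 2 d
  obtain ⟨ν, hν⟩ := CfsgLib.Forms.exists_dual_eq (⊥ : Submodule F K) (x := 1) (by simp) (1 : F)
  let B : K →ₗ[F] K →ₗ[F] F := (LinearMap.mul F K).compr₂ ν
  have hl : ∀ x : K, (∀ y, B x y = 0) → x = 0 := fun x h => by
    by_contra hx
    have := h x⁻¹
    simp [B, mul_inv_cancel₀ hx, hν.2] at this
  have hr : ∀ y : K, (∀ x, B x y = 0) → y = 0 := fun y h => hl y fun x => by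
    simpa [B, mul_comm] using h x
  obtain ⟨γ, hγ⟩ := IsCyclic.exists_ofOrder_eq_natCard (α := Kˣ)
  have hcard : Nat.card K = Fintype.card F ^ d := by
    rw [FiniteField.natCard_extension, Nat.card_eq_fintype_card]
  rw [Nat.card_units, hcard] at hγ
  let f : Kˣ →* Orth (pairForm B) :=
    { toFun := fun u => ⟨(LinearEquiv.prodCongr
        (LinearEquiv.ofLinearMap (LinearMap.mulLeft F (u : K)) (LinearMap.mulLeft F (↑u⁻¹ : K))
          (LinearMap.ext fun x => by simp) (LinearMap.ext fun x => by simp))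
        (LinearEquiv.ofLinearMap (LinearMap.mulLeft F (↑u⁻¹ : K)) (LinearMap.mulLeft F (u : K))
          (LinearMap.ext fun x => by simp) (LinearMap.ext fun x => by simp))), fun v => by
            show ν ((u : K) * v.1 * (↑u⁻¹ * v.2)) = ν (v.1 * v.2)
            rw [mul_mul_mul_comm, Units.mul_inv, one_mul]⟩
      map_one' := orth_ext fun x => by simp
      map_mul' := fun u v => orth_ext fun x => by simp [mul_comm, mul_left_comm] }
  have hf : Function.Injective f := fun u v h => Units.ext (by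
    simpa [f] using congrArg Prod.fst (congrArg (fun k : Orth (pairForm B) => k.1 (1, 0)) h))
  refine Realizes.mk' ?_ (ndPolar_pairForm hl hr) ?_ (f γ) ((orderOf_injective f hf γ).trans hγ)
  · rw [finrank_prod, FiniteField.finrank_extension, two_mul]
  · have := hasExcess_pairForm hl
    rwa [hcard, Nat.cast_pow] at this

theorem realizes_torus_nonsplit {d : ℕ} (hd : 1 ≤ d) :
    Realizes F (2 * d) (-((Fintype.card F : ℤ) ^ d)) (Fintype.card F ^ d + 1) := by
  classical
  haveI : NeZero (2 * d) := ⟨by omega⟩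
  haveI : Fact (Nat.Prime 2) := ⟨Nat.prime_two⟩
  let K := FiniteField.Extension F 2 (2 * d)
  haveI : CharP K 2 := charP_of_injective_algebraMap (algebraMap F K).injective 2
  obtain ⟨P, hP⟩ : ∃ P, P = Fintype.card F ^ d := ⟨_, rfl⟩
  have hq := Fintype.one_lt_card (α := F)
  have hP1 : 1 < P := hP ▸ Nat.one_lt_pow (by omega) hq
  have hK : Nat.card K = P ^ 2 := by
    rw [FiniteField.natCard_extension, Nat.card_eq_fintype_card, hP, ← pow_mul, mul_comm]
  have hPP : (P + 1) * (P - 1) = P ^ 2 - 1 := by simpa using (Nat.sq_sub_sq P 1).symm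
  let σ : K →ₐ[F] K := (FiniteField.frobeniusAlgHom F K) ^ d
  have hσ : ∀ x, σ x = x ^ P := fun x => by
    show (FiniteField.frobeniusAlgHom F K ^ d) x = _
    rw [AlgHom.coe_pow, FiniteField.coe_frobeniusAlgHom, pow_iterate, hP]
  have hσσ : ∀ x, σ (σ x) = x := fun x => by
    haveI := Fintype.ofFinite K
    rw [hσ, hσ, ← pow_mul, ← pow_two, ← hK, Nat.card_eq_fintype_card, FiniteField.pow_card]
  -- the fixed field
  have hfix : Nat.card (LinearMap.ker (σ.toLinearMap - LinearMap.id)) = P := by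
    have hU : Nat.card (powMonoidHom (P - 1) : Kˣ →* Kˣ).ker = P - 1 := by
      rw [IsCyclic.card_powMonoidHom_ker, Nat.card_units, hK, ← hPP, Nat.gcd_mul_left_left]
    let E : ↥(LinearMap.ker (σ.toLinearMap - LinearMap.id)) ≃
        Option ↥(powMonoidHom (P - 1) : Kˣ →* Kˣ).ker :=
      { toFun := fun x => if h : (x : K) = 0 then none else some ⟨Units.mk0 x h, by
          have hx := x.2
          rw [LinearMap.mem_ker, LinearMap.sub_apply, LinearMap.id_apply, sub_eq_zero,
            AlgHom.toLinearMap_apply, hσ, ← Nat.sub_add_cancel hP1.le, pow_succ] at hx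
          rw [MonoidHom.mem_ker, powMonoidHom_apply, Units.ext_iff]
          simpa using (mul_eq_right₀ h).1 hx⟩
        invFun := fun o => o.elim 0 fun u => ⟨((u : Kˣ) : K), by
          have hu := u.2
          rw [MonoidHom.mem_ker, powMonoidHom_apply, Units.ext_iff, Units.val_pow_eq_pow_val,
            Units.val_one] at hu
          rw [LinearMap.mem_ker, LinearMap.sub_apply, LinearMap.id_apply, sub_eq_zero,
            AlgHom.toLinearMap_apply, hσ]
          have h2 : ((u : Kˣ) : K) ^ (P - 1 + 1) = (u : Kˣ) := by rw [pow_succ, hu, one_mul]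
          simpa only [Nat.sub_add_cancel hP1.le] using h2⟩
        left_inv := fun x => by
          by_cases h : (x : K) = 0
          · simp only [dif_pos h]; exact Subtype.ext h.symm
          · simp only [dif_neg h]; rfl
        right_inv := fun o => by
          rcases o with _ | u
          · exact dif_pos rfl
          · refine (dif_neg (Units.ne_zero _)).trans (congrArg some (Subtype.ext (Units.ext rfl))) }
    rw [Nat.card_congr E,
      Finite.card_option, hU]
    omega
  obtain ⟨L, hL⟩ : ∃ L, L = LinearMap.ker (σ.toLinearMap - LinearMap.id) := ⟨_, rfl⟩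
  rw [← hL] at hfix
  have hLmem : ∀ x, x ∈ L ↔ σ x = x := fun x => by simp [hL, sub_eq_zero]
  obtain ⟨μ, -, hμ⟩ := CfsgLib.Forms.exists_dual_eq (⊥ : Submodule F K) (x := 1) (by simp) (1 : F)
  let Q : QuadraticForm F K :=
    LinearMap.BilinMap.toQuadraticMap (((LinearMap.mul F K).compr₂ μ).compl₂ σ.toLinearMap)
  have hQ : ∀ z, Q z = μ (z * σ z) := fun z => rfl
  obtain ⟨γ, hγ⟩ := IsCyclic.exists_ofOrder_eq_natCard (α := Kˣ)
  rw [Nat.card_units, hK, ← hPP] at hγ
  have hα : orderOf (γ ^ (P - 1)) = P + 1 := by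
    rw [orderOf_pow' _ (by omega), hγ, Nat.gcd_mul_left_left, Nat.mul_div_cancel _ (by omega)]
  -- non-degeneracy
  obtain ⟨w₀, hw₀⟩ : ∃ w, σ w ≠ w := by
    refine ⟨(γ : K), fun h => ?_⟩
    rw [hσ] at h
    have h1 : γ ^ (P - 1) = 1 := by
      refine Units.ext ?_
      rw [← Nat.sub_add_cancel hP1.le, pow_succ] at h
      simpa using (mul_eq_right₀ γ.ne_zero).1 h
    rw [h1, orderOf_one] at hα
    omega
  obtain ⟨w, hw⟩ : ∃ w, w + σ w = 1 := by
    have hne : w₀ + σ w₀ ≠ 0 := fun h => hw₀ (CharTwo.add_eq_zero.1 h).symm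
    refine ⟨w₀ / (w₀ + σ w₀), ?_⟩
    rw [map_div₀, map_add, hσσ, add_comm (σ w₀) w₀, ← add_div, div_self hne]
  have hnd : NDPolar Q := by
    intro x hx
    by_contra hx0
    have h := hx (σ (w / x))
    have hexp : polar Q x (σ (w / x)) = μ (x * σ (σ (w / x)) + σ (w / x) * σ x) := by
      simp only [polar, hQ, map_add, mul_add, add_mul]
      ring
    rw [hexp, hσσ, mul_div_cancel₀ _ hx0, ← map_mul, div_mul_cancel₀ _ hx0, hw, hμ] at h
    exact one_ne_zero h
  -- the excess
  have hN : ∀ z : K, z * σ z = z ^ (P + 1) := fun z => by rw [hσ, pow_succ']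
  have hkerN : Nat.card (powMonoidHom (P + 1) : Kˣ →* Kˣ).ker = P + 1 := by
    rw [IsCyclic.card_powMonoidHom_ker, Nat.card_units, hK, ← hPP, Nat.gcd_mul_right_left]
  have hrangeN : ∀ u : Kˣ, (u : K) ∈ L → u ∈ (powMonoidHom (P + 1) : Kˣ →* Kˣ).range := by
    intro u hu
    have htop : Subgroup.zpowers γ = ⊤ := Subgroup.eq_top_of_card_eq _ (by
      rw [Nat.card_zpowers, hγ, Nat.card_units, hK, hPP])
    obtain ⟨i, rfl⟩ := Submonoid.mem_powers_iff _ _ |>.1
      (mem_powers_iff_mem_zpowers.2 (htop ▸ Subgroup.mem_top u))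
    rw [hLmem, hσ, ← Nat.sub_add_cancel hP1.le, pow_succ] at hu
    have h1 : (γ ^ i) ^ (P - 1) = 1 := Units.ext (by simpa using (mul_eq_right₀ (Units.ne_zero _)).1 hu)
    rw [← pow_mul] at h1
    have h2 := orderOf_dvd_of_pow_eq_one h1
    rw [hγ] at h2
    obtain ⟨j, rfl⟩ := Nat.dvd_of_mul_dvd_mul_right (by omega) h2
    exact ⟨γ ^ j, by
      rw [powMonoidHom_apply, ← pow_mul]; exact congrArg (γ ^ ·) (Nat.mul_comm _ _)⟩
  have hexc : HasExcess Q (-(P : ℤ)) := by
    refine hasExcess_of_zeros Q ?_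
    let J := LinearMap.ker (μ.comp L.subtype)
    have hJ : Fintype.card F * Nat.card J = P := by
      have hsurj : Function.Surjective (μ.comp L.subtype) :=
        LinearMap.surjective_of_ne_zero (fun h0 => one_ne_zero (α := F) (by
          rw [← hμ]
          exact LinearMap.congr_fun h0 ⟨1, (hLmem 1).2 (map_one σ)⟩))
      have := Submodule.card_eq_card_quotient_mul_card J
      rw [hfix, Nat.card_congr (LinearMap.quotKerEquivOfSurjective _ hsurj).toEquiv,
        Nat.card_eq_fintype_card (α := F)] at this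
      rw [this, mul_comm]
    haveI : Fintype J := Fintype.ofFinite _
    have hfib : Nat.card {z : Kˣ // μ ((z : K) ^ (P + 1)) = 0} = (P + 1) * (Nat.card J - 1) := by
      have h := CfsgLib.Spectrum.OrthOddMixed.natCard_preimage (powMonoidHom (P + 1) : Kˣ →* Kˣ)
        (fun u => (u : K) ∈ L ∧ μ (u : K) = 0) (fun u hu => hrangeN u hu.1)
      rw [hkerN] at h
      rw [Nat.card_congr (β := {a : Kˣ // ((powMonoidHom (P + 1) a : Kˣ) : K) ∈ L ∧
          μ ((powMonoidHom (P + 1) a : Kˣ) : K) = 0}) (Equiv.subtypeEquivRight fun a => ?_), h]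
      · congr 1
        rw [← Nat.card_congr (α := {x : J // x ≠ 0}) (β := {u : Kˣ // (u : K) ∈ L ∧ μ (u : K) = 0})
          { toFun := fun x => ⟨Units.mk0 ((x.1.1 : L) : K) (fun h => x.2 (by
              exact Subtype.ext (Subtype.ext h))), x.1.1.2, x.1.2⟩
            invFun := fun u => ⟨⟨⟨(u.1 : K), u.2.1⟩, u.2.2⟩, fun h =>
              u.1.ne_zero (congrArg (fun j : J => ((j.1 : L) : K)) h)⟩
            left_inv := fun _ => rfl
            right_inv := fun _ => Subtype.ext (Units.ext rfl) }, Nat.card_eq_fintype_card,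
          Fintype.card_subtype_compl, Fintype.card_subtype_eq, Nat.card_eq_fintype_card]
      · simp only [powMonoidHom_apply, Units.val_pow_eq_pow_val]
        refine ⟨fun ha => ⟨(hLmem _).2 ?_, ha⟩, fun ha => ha.2⟩
        rw [← hN, map_mul, hσσ, mul_comm]
    have hzero : Nat.card {z // Q z = 0} = 1 + (P + 1) * (Nat.card J - 1) := by
      rw [Nat.card_congr (α := {z // Q z = 0}) (β := Option {z : Kˣ // μ ((z : K) ^ (P + 1)) = 0})
        { toFun := fun x => if h : x.1 = 0 then none else some ⟨Units.mk0 x.1 h, by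
            rw [Units.val_mk0, ← hN, ← hQ]; exact x.2⟩
          invFun := fun o => o.elim ⟨0, QuadraticMap.map_zero _⟩ fun u =>
            ⟨(u.1 : K), by rw [hQ, hN]; exact u.2⟩
          left_inv := fun x => by
            by_cases h : x.1 = 0
            · simp only [dif_pos h]; exact Subtype.ext h.symm
            · simp only [dif_neg h]; rfl
          right_inv := fun o => by
            rcases o with _ | u
            · exact dif_pos rfl
            · refine (dif_neg (Units.ne_zero _)).trans (congrArg some (Subtype.ext (Units.ext rfl))) },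
        Finite.card_option, hfib, add_comm]
    have hJ1 : 1 ≤ Nat.card J := Nat.card_pos
    have hJ' : (Fintype.card F : ℤ) * Nat.card J = P := by exact_mod_cast hJ
    rw [hzero, hK]
    push_cast [Nat.cast_sub hJ1]
    linear_combination ((P : ℤ) + 1) * hJ'
  -- the element
  let α : Kˣ := γ ^ (P - 1)
  have hα1 : α ^ (P + 1) = 1 := hα ▸ pow_orderOf_eq_one α
  let g : Orth Q := mkOrth hnd (LinearMap.mulLeft F (α : K)) fun z => by
    rw [LinearMap.mulLeft_apply, hQ, hQ, hN, hN, mul_pow, ← Units.val_pow_eq_pow_val, hα1,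
      Units.val_one, one_mul]
  have hgpow : ∀ (j : ℕ) (z : K), (g ^ j).1 z = (α : K) ^ j * z := by
    intro j
    induction j with
    | zero => simp
    | succ j ih =>
      intro z
      rw [pow_succ, CfsgLib.Classical.Quad.mul_apply, mkOrth_apply, ih, LinearMap.mulLeft_apply,
        pow_succ, mul_assoc]
  have hiff : ∀ j, g ^ j = 1 ↔ α ^ j = 1 := fun j => by
    refine ⟨fun h => Units.ext ?_, fun h => orth_ext fun z => ?_⟩
    · simpa [h] using (hgpow j 1).symm
    · rw [hgpow, ← Units.val_pow_eq_pow_val, h]; simp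
  refine Realizes.mk' (FiniteField.finrank_extension F 2 (2 * d)) hnd (by rwa [hP, Nat.cast_pow] at hexc)
    g ?_
  rw [← hP, ← hα]
  exact orderOf_eq_orderOf_iff.2 hiff

/-! ### The unipotent pieces -/

/-- `(z₀, z₁) ↦ (z₀ + z₁, z₁)`. -/
noncomputable def swapU (b : F) : Orth (plane b) :=
  mkOrth (ndPolar_plane b)
    { toFun := fun v => ![v 0 + v 1, v 1]
      map_add' := fun u v => by simp [add_add_add_comm]
      map_smul' := fun c v => by simp [mul_add] }
    fun v => by
      simp only [plane_apply, LinearMap.coe_mk, AddHom.coe_mk, Matrix.cons_val_zero, Matrix.cons_val_one]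
      linear_combination (v 0 * v 1 + v 1 * v 1) * CharTwo.two_eq_zero (R := F)

theorem swapU_apply (b : F) (v : Fin 2 → F) : (swapU b).1 v = ![v 0 + v 1, v 1] := rfl

theorem orderOf_swapU (b : F) : orderOf (swapU b) = 2 := by
  refine orderOf_eq_prime ?_ fun h => ?_
  · refine orth_ext fun v => ?_
    funext i
    fin_cases i <;> simp [pow_two, swapU_apply, add_assoc, CharTwo.add_self_eq_zero]
  · have := congrFun (congrArg (fun k : Orth (plane b) => k.1 ![0, 1]) h) 0
    simp [swapU_apply] at this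

theorem moved_swapU (b : F) : moved (swapU b) = 1 := by
  have hr : LinearMap.range (subOne (swapU b)) = F ∙ (![1, 0] : Fin 2 → F) := by
    refine le_antisymm ?_ ?_
    · rintro _ ⟨v, rfl⟩
      refine Submodule.mem_span_singleton.2 ⟨v 1, ?_⟩
      funext i
      fin_cases i <;> simp [swapU_apply]
    · rw [Submodule.span_singleton_le_iff_mem]
      exact ⟨![0, 1], by funext i; fin_cases i <;> simp [swapU_apply]⟩
  rw [moved, hr, finrank_span_singleton]
  simp

/-- A four-dimensional space of the type of `plane b`. -/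
def space4 (b : F) : QuadraticForm F ((Fin 2 → F) × (F × F)) := (plane b).prod (hypPlane F)

theorem space4_apply (b : F) (v : (Fin 2 → F) × (F × F)) :
    space4 b v = v.1 0 * v.1 0 + v.1 0 * v.1 1 + b * (v.1 1 * v.1 1) + v.2.1 * v.2.2 := by
  rw [space4, QuadraticMap.prod_apply, plane_apply]; rfl

theorem ndPolar_space4 (b : F) : NDPolar (space4 b) := ndPolar_prod (ndPolar_plane b) ndPolar_hypPlane

/-- A regular unipotent isometry of `space4 b`. -/
noncomputable def jordan4 (b : F) : Orth (space4 b) :=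
  mkOrth (ndPolar_space4 b)
    { toFun := fun v => (![v.1 0 + v.1 1 + v.2.2, v.1 1 + v.2.2], v.2.1 + v.1 0 + b * v.2.2, v.2.2)
      map_add' := fun u v => by
        refine Prod.ext (funext fun i => ?_) (Prod.ext ?_ rfl)
        · fin_cases i <;> simp <;> ring
        · simp; ring
      map_smul' := fun c v => by
        refine Prod.ext (funext fun i => ?_) (Prod.ext ?_ rfl)
        · fin_cases i <;> simp <;> ring
        · simp; ring }
    fun v => by
      simp only [space4_apply, LinearMap.coe_mk, AddHom.coe_mk, Matrix.cons_val_zero, Matrix.cons_val_one]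
      linear_combination (v.1 0 * v.1 1 + v.1 1 * v.1 1 + 2 * (v.1 1 * v.2.2) + 2 * (v.1 0 * v.2.2)
        + v.2.2 * v.2.2 + b * (v.1 1 * v.2.2) + b * (v.2.2 * v.2.2)) * CharTwo.two_eq_zero (R := F)

theorem jordan4_apply (b : F) (v : (Fin 2 → F) × (F × F)) : (jordan4 b).1 v =
    (![v.1 0 + v.1 1 + v.2.2, v.1 1 + v.2.2], v.2.1 + v.1 0 + b * v.2.2, v.2.2) := rfl

theorem jordan4_sq (b : F) (v : (Fin 2 → F) × (F × F)) : (jordan4 b ^ 2).1 v =
    (![v.1 0 + v.2.2, v.1 1], v.2.1 + v.1 1 + v.2.2, v.2.2) := by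
  rw [pow_two, CfsgLib.Classical.Quad.mul_apply, jordan4_apply, jordan4_apply]
  refine Prod.ext (funext fun i => ?_) (Prod.ext ?_ rfl)
  · fin_cases i
    · simp; linear_combination (v.1 1 + v.2.2) * CharTwo.two_eq_zero (R := F)
    · simp; linear_combination v.2.2 * CharTwo.two_eq_zero (R := F)
  · simp; linear_combination (v.1 0 + b * v.2.2) * CharTwo.two_eq_zero (R := F)

theorem orderOf_jordan4 (b : F) : orderOf (jordan4 b) = 4 := by
  haveI : Fact (Nat.Prime 2) := ⟨Nat.prime_two⟩
  refine orderOf_eq_prime_pow (p := 2) (n := 1) (fun h => ?_) (orth_ext fun v => ?_)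
  · rw [pow_one] at h
    have := congrArg (fun k : Orth (space4 b) => (k.1 (![0, 1], (0, 0))).2.1) h
    rw [jordan4_sq] at this
    simp at this
  · rw [show (2 : ℕ) ^ (1 + 1) = 2 * 2 by norm_num, pow_mul, pow_two, CfsgLib.Classical.Quad.mul_apply,
      jordan4_sq, jordan4_sq]
    refine Prod.ext (funext fun i => ?_) (Prod.ext ?_ rfl)
    · fin_cases i <;> simp [add_assoc, CharTwo.add_self_eq_zero]
    · simp; linear_combination (v.1 1 + v.2.2) * CharTwo.two_eq_zero (R := F)

theorem moved_jordan4 (b : F) : moved (jordan4 b) = 3 := by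
  let p : (Fin 2 → F) × (F × F) →ₗ[F] F := (LinearMap.snd F F F).comp (LinearMap.snd F _ _)
  have hr : LinearMap.range (subOne (jordan4 b)) = LinearMap.ker p := by
    refine le_antisymm ?_ fun v hv => ?_
    · rintro _ ⟨v, rfl⟩
      simp [p, jordan4_apply]
    · refine ⟨(![v.2.1 + b * v.1 1, v.1 0 + v.1 1], 0, v.1 1), ?_⟩
      have hv' : v.2.2 = 0 := by simpa [p] using hv
      rw [subOne_apply, jordan4_apply]
      refine Prod.ext (funext fun i => ?_) (Prod.ext ?_ ?_)
      · fin_cases i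
        · simp; linear_combination v.1 1 * CharTwo.two_eq_zero (R := F)
        · simp
      · simp; linear_combination b * v.1 1 * CharTwo.two_eq_zero (R := F)
      · simp [hv']
  have hsurj : LinearMap.range p = ⊤ :=
    LinearMap.range_eq_top.2 fun c => ⟨(0, 0, c), rfl⟩
  have := p.finrank_range_add_finrank_ker
  rw [hsurj, finrank_top, finrank_self, finrank_prod, finrank_prod, finrank_self, finrank_fin_fun] at this
  rw [moved, hr]
  omega

/-- A six-dimensional space of the type of `plane b`. -/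
def space6 (b : F) : QuadraticForm F (((Fin 2 → F) × (F × F)) × (F × F)) :=
  (space4 b).prod (hypPlane F)

theorem ndPolar_space6 (b : F) : NDPolar (space6 b) := ndPolar_prod (ndPolar_space4 b) ndPolar_hypPlane

/-- A regular unipotent isometry of `space6 b`. -/
noncomputable def jordan6 (b : F) : Orth (space6 b) :=
  prodOrth (jordan4 b, 1) * mkOrth (ndPolar_space6 b)
    { toFun := fun v => ((v.1.1, v.1.2.1, v.1.2.2 + v.2.2), v.2.1 + v.1.2.1, v.2.2)
      map_add' := fun u v => by
        refine Prod.ext (Prod.ext rfl (Prod.ext rfl ?_)) (Prod.ext ?_ rfl) <;> simp <;> ring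
      map_smul' := fun c v => by
        refine Prod.ext (Prod.ext rfl (Prod.ext rfl ?_)) (Prod.ext ?_ rfl) <;> simp <;> ring }
    fun v => by
      simp only [space6, QuadraticMap.prod_apply, space4_apply, LinearMap.coe_mk, AddHom.coe_mk]
      show _ + v.1.2.1 * (v.1.2.2 + v.2.2) + (v.2.1 + v.1.2.1) * v.2.2 = _ + v.2.1 * v.2.2
      linear_combination v.1.2.1 * v.2.2 * CharTwo.two_eq_zero (R := F)

theorem jordan6_apply (b : F) (v : ((Fin 2 → F) × (F × F)) × (F × F)) : (jordan6 b).1 v =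
    ((![v.1.1 0 + v.1.1 1 + (v.1.2.2 + v.2.2), v.1.1 1 + (v.1.2.2 + v.2.2)],
      v.1.2.1 + v.1.1 0 + b * (v.1.2.2 + v.2.2), v.1.2.2 + v.2.2), v.2.1 + v.1.2.1, v.2.2) := rfl

theorem jordan6_sq (b : F) (v : ((Fin 2 → F) × (F × F)) × (F × F)) : (jordan6 b ^ 2).1 v =
    ((![v.1.1 0 + v.1.2.2, v.1.1 1 + v.2.2],
      v.1.2.1 + v.1.1 1 + v.1.2.2 + v.2.2 + b * v.2.2, v.1.2.2),
      v.2.1 + v.1.1 0 + b * (v.1.2.2 + v.2.2), v.2.2) := by
  have h2 := CharTwo.two_eq_zero (R := F)
  rw [pow_two, CfsgLib.Classical.Quad.mul_apply, jordan6_apply, jordan6_apply]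
  refine Prod.ext (Prod.ext (funext fun i => ?_) (Prod.ext ?_ ?_)) (Prod.ext ?_ rfl)
  · fin_cases i
    · simp; linear_combination (v.1.1 1 + v.1.2.2 + 2 * v.2.2) * h2
    · simp; linear_combination (v.1.2.2 + v.2.2) * h2
  · simp; linear_combination (v.1.1 0 + b * v.1.2.2 + b * v.2.2) * h2
  · simp; linear_combination v.2.2 * h2
  · simp; linear_combination v.1.2.1 * h2

theorem orderOf_jordan6 (b : F) : orderOf (jordan6 b) = 8 := by
  haveI : Fact (Nat.Prime 2) := ⟨Nat.prime_two⟩
  have h4 : ∀ v, (jordan6 b ^ 4).1 v =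
      ((v.1.1, v.1.2.1 + v.2.2, v.1.2.2), v.2.1 + v.1.2.2, v.2.2) := by
    intro v
    have h2 := CharTwo.two_eq_zero (R := F)
    rw [show (4 : ℕ) = 2 * 2 from rfl, pow_mul, pow_two (jordan6 b ^ 2), CfsgLib.Classical.Quad.mul_apply,
      jordan6_sq, jordan6_sq]
    refine Prod.ext (Prod.ext (funext fun i => ?_) (Prod.ext ?_ rfl)) (Prod.ext ?_ rfl)
    · fin_cases i
      · simp; linear_combination v.1.2.2 * h2
      · simp; linear_combination v.2.2 * h2
    · simp; linear_combination (v.1.1 1 + v.1.2.2 + v.2.2 + b * v.2.2) * h2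
    · simp; linear_combination (v.1.1 0 + b * v.1.2.2 + b * v.2.2) * h2
  refine orderOf_eq_prime_pow (p := 2) (n := 2) (fun h => ?_) (orth_ext fun v => ?_)
  · have := congrArg (fun k : Orth (space6 b) => (k.1 ((0, 0, 1), 0, 0)).2.1) h
    rw [pow_two] at this
    simp only [show (2 : ℕ) * 2 = 4 from rfl, h4] at this
    simp at this
  · rw [show (2 : ℕ) ^ (2 + 1) = 4 * 2 by norm_num, pow_mul, pow_two (jordan6 b ^ 4),
      CfsgLib.Classical.Quad.mul_apply, h4, h4]
    refine Prod.ext (Prod.ext rfl (Prod.ext ?_ rfl)) (Prod.ext ?_ rfl) <;>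
      simp [add_assoc, CharTwo.add_self_eq_zero]

theorem finrank_space4 : finrank F ((Fin 2 → F) × (F × F)) = 4 := by simp

theorem realizes_two {s : ℤ} (hs : s = 1 ∨ s = -1) : Realizes F 2 (s * Fintype.card F) 2 := by
  obtain ⟨b, hb⟩ := exists_plane (F := F) hs
  exact Realizes.mk' (by simp) (ndPolar_plane b) hb (swapU b) (orderOf_swapU b)

theorem realizes_four {s : ℤ} (hs : s = 1 ∨ s = -1) :
    Realizes F 4 (s * (Fintype.card F : ℤ) ^ 2) 4 := by
  obtain ⟨b, hb⟩ := exists_plane (F := F) hs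
  refine Realizes.mk' finrank_space4 (ndPolar_space4 b) ?_ (jordan4 b) (orderOf_jordan4 b)
  rw [pow_two, ← mul_assoc]
  exact hb.prod hasExcess_hypPlane

theorem realizes_eight {s : ℤ} (hs : s = 1 ∨ s = -1) :
    Realizes F 6 (s * (Fintype.card F : ℤ) ^ 3) 8 := by
  obtain ⟨b, hb⟩ := exists_plane (F := F) hs
  refine Realizes.mk' (by simp) (ndPolar_space6 b) ?_ (jordan6 b) (orderOf_jordan6 b)
  rw [pow_succ, pow_two, ← mul_assoc, ← mul_assoc]
  exact (hb.prod hasExcess_hypPlane).prod hasExcess_hypPlane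

theorem realizesX_two {s : ℤ} (hs : s = 1 ∨ s = -1) : RealizesX F 2 (s * Fintype.card F) 1 := by
  obtain ⟨b, hb⟩ := exists_plane (F := F) hs
  refine RealizesX.mk' (by simp) (ndPolar_plane b) hb 1 (by simp [CfsgLib.Orth.moved_one]) orderOf_one
    (w := ![1, 0]) ?_
  simp [powSum]

theorem realizesX_four {s : ℤ} (hs : s = 1 ∨ s = -1) :
    RealizesX F 4 (s * (Fintype.card F : ℤ) ^ 2) 2 := by
  obtain ⟨b, hb⟩ := exists_plane (F := F) hs
  obtain ⟨b', hb'⟩ := exists_plane (F := F) (Or.inl rfl)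
  rw [one_mul] at hb'
  refine RealizesX.mk' (Q := (plane b).prod (plane b')) (by simp)
    (ndPolar_prod (ndPolar_plane b) (ndPolar_plane b')) ?_ (prodOrth (swapU b, swapU b')) ?_ ?_
    (w := (![0, 1], 0)) ?_
  · rw [pow_two, ← mul_assoc]; exact hb.prod hb'
  · rw [moved_prodOrth, moved_swapU, moved_swapU]; exact ⟨1, rfl⟩
  · rw [orderOf_injective _ prodOrth_injective, Prod.orderOf, orderOf_swapU, orderOf_swapU,
      Nat.lcm_self]
  · simp [powSum, Finset.sum_range_succ, prodOrth, swapU_apply, CharTwo.add_self_eq_zero]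

theorem realizesX_eight {s : ℤ} (hs : s = 1 ∨ s = -1) :
    RealizesX F 6 (s * (Fintype.card F : ℤ) ^ 3) 4 := by
  obtain ⟨b, hb⟩ := exists_plane (F := F) hs
  obtain ⟨b', hb'⟩ := exists_plane (F := F) (Or.inl rfl)
  rw [one_mul] at hb'
  refine RealizesX.mk' (Q := (space4 b).prod (plane b')) (by simp)
    (ndPolar_prod (ndPolar_space4 b) (ndPolar_plane b')) ?_ (prodOrth (jordan4 b, swapU b')) ?_ ?_
    (w := ((0, 0, 1), 0)) ?_
  · rw [pow_succ, pow_two, ← mul_assoc, ← mul_assoc]; exact (hb.prod hasExcess_hypPlane).prod hb'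
  · rw [moved_prodOrth, moved_jordan4, moved_swapU]; exact ⟨2, rfl⟩
  · rw [orderOf_injective _ prodOrth_injective, Prod.orderOf, orderOf_jordan4, orderOf_swapU]
    rfl
  · intro h
    have h' := congrArg (fun v : ((Fin 2 → F) × (F × F)) × (Fin 2 → F) => v.1.2.1) h
    simp [powSum, Finset.sum_range_succ, pow_succ, prodOrth, jordan4_apply] at h'
    ring_nf at h'
    exact one_ne_zero (α := F) (by linear_combination h' - (2 + 3 * b) * CharTwo.two_eq_zero (R := F))

end CfsgLib.Spectrum.EightEven
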