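import Cfsg.Agent.Lib.Spectrum.EightEven.Bound
import Cfsg.Agent.Lib.Spectrum.EightEven.Pieces
import Cfsg.Agent.Lib.Spectrum.SympElements
import Cfsg.Agent.Lib.AlmostAll.ModuleExt
import Cfsg.Agent.Lib.OrthCrit.Basic

/-!
The spectra of `Sp(8, q)`, of the orthogonal group of minus type in dimension eight and of the
extensions of its derived subgroup by natural modules, `q` even: they all coincide.
-/

set_option autoImplicit false
set_option linter.unusedSectionVars false
set_option linter.style.haveILetI false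
set_option linter.unusedTactic false

namespace CfsgLib.Spectrum.EightEven

open Module QuadraticMap
open CfsgLib.Classical.Quad (NDPolar Orth orth_ext)
open CfsgLib.Orth (moved subOne)
open CfsgLib.OrthCrit (plusForm minusForm)

variable {F : Type*} [Field F] [Fintype F] [CharP F 2]

theorem exists_decomposition {N : ℕ} (hN : N ∈ entries (Fintype.card F)) :
    (Odd N ∧ Realizes F 8 (-((Fintype.card F : ℤ) ^ 4)) N) ∨
    ∃ (n₁ n₂ : ℕ) (e₁ e₂ : ℤ) (M j : ℕ), n₁ + n₂ = 8 ∧ e₁ * e₂ = -((Fintype.card F : ℤ) ^ 4) ∧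
      Odd M ∧ Realizes F n₁ e₁ M ∧ Realizes F n₂ e₂ (2 ^ (j + 1)) ∧
      RealizesX F n₂ e₂ (2 ^ j) ∧ N = M * 2 ^ (j + 1) := by
  obtain ⟨q, hq⟩ : ∃ q, q = Fintype.card F := ⟨_, rfl⟩
  have heven : Even q := hq ▸ Nat.even_iff.2 (FiniteField.even_card_of_char_two (ringChar.eq F 2))
  have hq2 : 2 ≤ q := hq ▸ Fintype.one_lt_card
  have hodd := fun c M h => odd_of_mem_torusList heven hq2 (c := c) (M := M) h
  have hco : ∀ {u v : ℕ}, Odd u → Odd v → (∃ k, u = v * k + 2 ∨ u + 2 = v * k) → u.Coprime v := by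
    intro u v hu hv ⟨k, hk⟩
    have h2 : Nat.gcd u v ∣ 2 := by
      rcases hk with hk | hk
      · exact (Nat.dvd_add_right ((Nat.gcd_dvd_right u v).mul_right k)).1 (hk ▸ Nat.gcd_dvd_left u v)
      · exact (Nat.dvd_add_right (Nat.gcd_dvd_left u v)).1 (hk ▸ (Nat.gcd_dvd_right u v).mul_right k)
    rcases (Nat.dvd_prime Nat.prime_two).1 h2 with h | h
    · exact h
    · exact absurd (h ▸ Nat.gcd_dvd_left u v) (by rw [← even_iff_two_dvd, Nat.not_even_iff_odd]; exact hu)
  have o3p : Odd (q ^ 3 + 1) := hodd 3 _ (by simp [torusList])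
  have o3m : Odd (q ^ 3 - 1) := hodd 3 _ (by simp [torusList])
  have o2p : Odd (q ^ 2 + 1) := hodd 2 _ (by simp [torusList])
  have o2m : Odd (q ^ 2 - 1) := hodd 2 _ (by simp [torusList])
  have o1p : Odd (q + 1) := hodd 1 _ (by simp [torusList])
  have o1m : Odd (q - 1) := hodd 1 _ (by simp [torusList])
  have T := fun d hd => realizes_torus_split (F := F) (d := d) hd
  have S := fun d hd => realizes_torus_nonsplit (F := F) (d := d) hd
  rw [← hq] at hN T S ⊢
  have T1 : Realizes F 2 (q : ℤ) (q - 1) := by simpa only [mul_one, pow_one] using T 1 le_rfl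
  have S1 : Realizes F 2 (-(q : ℤ)) (q + 1) := by simpa only [mul_one, pow_one] using S 1 le_rfl
  have hlcm : ∀ {n₁ n₂ u v : ℕ} {e₁ e₂ : ℤ}, u.Coprime v → Realizes F n₁ e₁ u → Realizes F n₂ e₂ v →
      Realizes F (n₁ + n₂) (e₁ * e₂) (u * v) := fun h h₁ h₂ => h.lcm_eq_mul ▸ h₁.prod h₂
  have c22 : (q ^ 2 + 1).Coprime (q ^ 2 - 1) :=
    hco o2p o2m ⟨1, Or.inl (by have := Nat.one_le_pow 2 q (by omega); omega)⟩
  obtain ⟨r, rfl⟩ : ∃ r, q = r + 1 := ⟨q - 1, by omega⟩
  have hsub : ∀ k, (r + 1) ^ k - 1 + 1 = (r + 1) ^ k := fun k =>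
    Nat.sub_add_cancel (Nat.one_le_pow _ _ (by omega))
  have c31 : ((r + 1) ^ 3 + 1).Coprime (r + 1 - 1) :=
    hco o3p o1m ⟨r ^ 2 + 3 * r + 3, Or.inl (by rw [Nat.add_sub_cancel]; ring)⟩
  have c13 : ((r + 1) ^ 3 - 1).Coprime (r + 1 + 1) :=
    hco o3m o1p ⟨r * r + r + 1, Or.inr (by
      have := hsub 3
      nlinarith)⟩
  have c21m : ((r + 1) ^ 2 + 1).Coprime (r + 1 - 1) :=
    hco o2p o1m ⟨r + 2, Or.inl (by rw [Nat.add_sub_cancel]; ring)⟩
  have c21p : ((r + 1) ^ 2 + 1).Coprime (r + 1 + 1) :=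
    hco o2p o1p ⟨r, Or.inl (by ring)⟩
  have pm := Or.inr (a := (-1 : ℤ) = 1) (rfl : (-1 : ℤ) = -1)
  have pp := Or.inl (b := (1 : ℤ) = -1) (rfl : (1 : ℤ) = 1)
  simp only [entries, List.mem_cons, List.not_mem_nil, or_false] at hN
  rcases hN with rfl | rfl | rfl | rfl | rfl | rfl | rfl | rfl | rfl | rfl | rfl | rfl
  · exact Or.inl ⟨hodd 4 _ (by simp [torusList]), S 4 (by norm_num)⟩
  · refine Or.inl ⟨hodd 4 _ (by simp [torusList]), ?_⟩
    have h := hlcm c22 (S 2 (by norm_num)) (T 2 (by norm_num))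
    rw [← quad_sub_one_eq] at h
    convert h using 1
    (try simp only [← hq]); push_cast; ring
  · refine Or.inl ⟨hodd 4 _ (by simp [torusList]), ?_⟩
    have h := hlcm c31 (S 3 (by norm_num)) T1
    convert h using 1
    (try simp only [← hq]); push_cast; ring
  · refine Or.inl ⟨hodd 4 _ (by simp [torusList]), ?_⟩
    have h := hlcm c13 (T 3 (by norm_num)) S1
    convert h using 1
    (try simp only [← hq]); push_cast; ring
  · refine Or.inr ⟨6, 2, _, _, _, 0, rfl, ?_, o3p, S 3 (by norm_num),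
      realizes_two pp, realizesX_two pp, by ring⟩
    (try simp only [← hq]); push_cast; ring
  · refine Or.inr ⟨6, 2, _, _, _, 0, rfl, ?_, o3m, T 3 (by norm_num),
      realizes_two pm, realizesX_two pm, by ring⟩
    (try simp only [← hq]); push_cast; ring
  · refine Or.inr ⟨6, 2, _, _, _, 0, rfl, ?_, o2p.mul o1p,
      hlcm c21p (S 2 (by norm_num)) S1,
      realizes_two pm, realizesX_two pm, by ring⟩
    (try simp only [← hq]); push_cast; ring
  · refine Or.inr ⟨6, 2, _, _, _, 0, rfl, ?_, o2p.mul o1m,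
      hlcm c21m (S 2 (by norm_num)) T1,
      realizes_two pp, realizesX_two pp, by ring⟩
    (try simp only [← hq]); push_cast; ring
  · refine Or.inr ⟨4, 4, _, _, _, 1, rfl, ?_, o2p, S 2 (by norm_num),
      realizes_four pp, realizesX_four pp, by ring⟩
    (try simp only [← hq]); push_cast; ring
  · refine Or.inr ⟨4, 4, _, _, _, 1, rfl, ?_, o2m, T 2 (by norm_num),
      realizes_four pm, realizesX_four pm, by ring⟩
    (try simp only [← hq]); push_cast; ring
  · refine Or.inr ⟨2, 6, _, _, _, 2, rfl, ?_, o1p,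
      S1, realizes_eight pp, realizesX_eight pp, by ring⟩
    (try simp only [← hq]); push_cast; ring
  · refine Or.inr ⟨2, 6, _, _, _, 2, rfl, ?_, o1m,
      T1, realizes_eight pm, realizesX_eight pm, by ring⟩
    (try simp only [← hq]); push_cast; ring

theorem hasExcess_plusForm (m : ℕ) : HasExcess (plusForm m F) ((Fintype.card F : ℤ) ^ m) := by
  let B : (Fin m → F) →ₗ[F] (Fin m → F) →ₗ[F] F :=
    LinearMap.mk₂ F (fun x y => ∑ i, x i * y i)
      (fun x x' y => by simp [add_mul, Finset.sum_add_distrib])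
      (fun c x y => by simp [Finset.mul_sum, mul_assoc])
      (fun x y y' => by simp [mul_add, Finset.sum_add_distrib])
      (fun c x y => by simp [Finset.mul_sum, mul_left_comm])
  have h := hasExcess_pairForm (B := B) fun x hx => funext fun i => by
    simpa [B, Pi.single_apply] using hx (Pi.single i 1)
  rw [Nat.card_fun, Nat.card_fin, Nat.card_eq_fintype_card, Nat.cast_pow] at h
  exact h.of_equiv (LinearEquiv.sumArrowLequivProdArrow (Fin m) (Fin m) F F) fun v => rfl

theorem exists_minus_equiv {Q : QuadraticForm F (Fin 8 → F)} (hnd : NDPolar Q)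
    (he : HasExcess Q (-((Fintype.card F : ℤ) ^ 4))) {a b : F}
    (hab : CfsgLib.RootCount.Aniso a b) :
    ∃ E : ((Fin 3 ⊕ Fin 3) ⊕ Fin 2 → F) ≃ₗ[F] (Fin 8 → F), ∀ v, Q (E v) = minusForm 3 F a b v := by
  rcases CfsgLib.RootCount.classify_even Q hnd (m := 4) (by simp) hab with
    ⟨-, E, hE⟩ | ⟨-, k, hk, E, hE⟩
  · have h := (he.of_equiv E hE).unique (hasExcess_plusForm 4)
    have : (0 : ℤ) < (Fintype.card F : ℤ) ^ 4 := pow_pos (by exact_mod_cast Fintype.card_pos) 4
    omega
  · obtain rfl : k = 3 := by omega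
    exact ⟨E, hE⟩

theorem exists_orth_of_mem {a b : F} (hab : CfsgLib.RootCount.Aniso a b) {N : ℕ}
    (hN : N ∈ entries (Fintype.card F)) : ∃ g : Orth (minusForm 3 F a b), orderOf g = N := by
  have main : Realizes F 8 (-((Fintype.card F : ℤ) ^ 4)) N := by
    rcases exists_decomposition hN with ⟨-, h⟩ | ⟨n₁, n₂, e₁, e₂, M, j, hn, he, hM, h₁, h₂, -, rfl⟩
    · exact h
    · have h := h₁.prod h₂
      rwa [hn, he, (Nat.Coprime.pow_right (j + 1) hM.coprime_two_right).lcm_eq_mul] at h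
  obtain ⟨Q, hnd, he, g, hg⟩ := main
  obtain ⟨E, hE⟩ := exists_minus_equiv hnd he hab
  exact ⟨conjOrth E hE g, (orderOf_injective _ (conjOrth_injective E hE) g).trans hg⟩

theorem exists_orth_even_of_mem {a b : F} (hab : CfsgLib.RootCount.Aniso a b) {N : ℕ}
    (hN : N ∈ entries (Fintype.card F)) :
    (∃ g : Orth (minusForm 3 F a b), Odd N ∧ orderOf g = N) ∨
    ∃ (g : Orth (minusForm 3 F a b)) (w : (Fin 3 ⊕ Fin 3) ⊕ Fin 2 → F), Even (moved g) ∧
      powSum g (orderOf g) w ≠ 0 ∧ 2 * orderOf g = N := by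
  rcases exists_decomposition hN with ⟨hodd, -⟩ | ⟨n₁, n₂, e₁, e₂, M, j, hn, he, hM, h₁, -, h₂, rfl⟩
  · obtain ⟨g, hg⟩ := exists_orth_of_mem hab hN
    exact Or.inl ⟨g, hodd, hg⟩
  · right
    have h := RealizesX.prod hM (Nat.Coprime.pow_right j hM.coprime_two_right) (by omega) h₁ h₂
    rw [hn, he] at h
    obtain ⟨Q, hnd, hexc, g, hev, hg, w, hw⟩ := h
    obtain ⟨E, hE⟩ := exists_minus_equiv hnd hexc hab
    refine ⟨conjOrth E hE g, E.symm w, by rwa [moved_conjOrth], ?_, ?_⟩
    · rw [orderOf_injective _ (conjOrth_injective E hE), hg, powSum_conjOrth,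
        LinearEquiv.apply_symm_apply, Ne, LinearEquiv.map_eq_zero_iff]
      exact hw
    · rw [orderOf_injective _ (conjOrth_injective E hE), hg]
      ring

/-- A set of element orders squeezed between the entries and their divisors. -/
theorem range_eq_spec {G : Type*} [Group G] [Finite G] (q : ℕ)
    (hup : ∀ g : G, ∃ N ∈ entries q, orderOf g ∣ N)
    (hlow : ∀ N ∈ entries q, ∃ g : G, N ∣ orderOf g) :
    Set.range (orderOf : G → ℕ) = spec q := by
  ext n
  constructor
  · rintro ⟨g, rfl⟩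
    exact hup g
  · rintro ⟨N, hN, hn⟩
    obtain ⟨g, hg⟩ := hlow N hN
    exact ⟨g ^ (orderOf g / n), orderOf_pow_orderOf_div (orderOf_pos g).ne' (hn.trans hg)⟩

theorem coe_pow_apply {V : Type*} [AddCommGroup V] [Module F V] {Q : QuadraticForm F V} (g : Orth Q)
    (j : ℕ) (x : V) : (g ^ j).1 x = (((g.1 : V →ₗ[F] V) : Module.End F V) ^ j) x := by
  induction j generalizing x with
  | zero => rfl
  | succ j ih => rw [pow_succ, pow_succ, CfsgLib.Classical.Quad.mul_apply, ih, Module.End.mul_apply]; rfl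

theorem finite_orth {ι : Type} [Fintype ι] [DecidableEq ι] (Q : QuadraticForm F (ι → F)) :
    Finite (Orth Q) :=
  Finite.of_equiv _ (CfsgLib.OrthCrit.toOrth Q).toEquiv

theorem bound_orth {Q : QuadraticForm F ((Fin 3 ⊕ Fin 3) ⊕ Fin 2 → F)} (hnd : NDPolar Q)
    (g : Orth Q) :
    ∃ N ∈ entries (Fintype.card F), orderOf g ∣ N ∧
      (Even (moved g) → ∀ w, powSum g N w = 0) := by
  haveI := finite_orth Q
  have hf : IsOfFinOrder g := isOfFinOrder_of_finite g
  obtain ⟨N, hN, h1, h2⟩ := exists_bound (F := F) (V := (Fin 3 ⊕ Fin 3) ⊕ Fin 2 → F) (by simp)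
    (polarBilin Q) (CfsgLib.Orth.ndPolar_iff.mp hnd) (g.1 : _ →ₗ[F] _)
    (fun x y => CfsgLib.Classical.Quad.orth_polar g x y) hf.orderOf_pos
    (LinearMap.ext fun x => by rw [← coe_pow_apply, pow_orderOf_eq_one]; rfl)
  refine ⟨N, hN, orderOf_dvd_of_pow_eq_one (orth_ext fun x => by rw [coe_pow_apply, h1]; rfl),
    fun hev w => ?_⟩
  have h3 := h2 (fun hk => by
    have h4 := LinearMap.finrank_range_add_finrank_ker (subOne g)
    have h5 : LinearMap.ker (subOne g) =
        LinearMap.ker (((g.1 : _ →ₗ[F] _) : Module.End F ((Fin 3 ⊕ Fin 3) ⊕ Fin 2 → F)) - 1) := rfl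
    rw [h5, hk, finrank_pi] at h4
    obtain ⟨r, hr⟩ := hev
    rw [moved] at hr
    simp at h4
    omega)
  rw [powSum]
  have h6 := LinearMap.congr_fun h3 w
  simp only [LinearMap.sum_apply, LinearMap.zero_apply] at h6
  simpa only [coe_pow_apply] using h6

theorem range_orderOf_minus {a b : F} (hab : CfsgLib.RootCount.Aniso a b) :
    Set.range (orderOf : ↥(Cfsg.isometryGroup F (Cfsg.quadFormMinus 3 F a b)) → ℕ) =
      spec (Fintype.card F) := by
  have hnd := CfsgLib.OrthCrit.ndPolar_minusForm 3 a b hab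
    fun h => CfsgLib.OrthCrit.a_ne_zero_of_anisotropic hab h
  let e := CfsgLib.OrthCrit.toOrth (minusForm 3 F a b)
  haveI : Finite (Orth (minusForm 3 F a b)) := Finite.of_equiv _ e.toEquiv
  show Set.range (orderOf : ↥(Cfsg.isometryGroup F ⇑(minusForm 3 F a b)) → ℕ) = _
  refine range_eq_spec _ (fun g => ?_) fun N hN => ?_
  · obtain ⟨N, hN, h, -⟩ := bound_orth hnd (e g)
    exact ⟨N, hN, by rwa [e.orderOf_eq] at h⟩
  · obtain ⟨g, hg⟩ := exists_orth_of_mem hab hN
    exact ⟨e.symm g, by rw [e.symm.orderOf_eq, hg]⟩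

/-- The identification of the polar form of the minus-type form with the symplectic form. -/
theorem exists_symp_equiv {a b : F} (ha : a ≠ 0) :
    ∃ L : ((Fin 3 ⊕ Fin 3) ⊕ Fin 2 → F) ≃ₗ[F] (Fin 4 ⊕ Fin 4 → F), ∀ x y,
      Cfsg.sympForm 4 F (L x) (L y) = polar (⇑(minusForm 3 F a b)) x y := by
  let L₀ : ((Fin 3 ⊕ Fin 3) ⊕ Fin 2 → F) →ₗ[F] (Fin 4 ⊕ Fin 4 → F) :=
    { toFun := fun x => Sum.elim (Fin.lastCases (a * x (.inr 0)) fun i => x (.inl (.inl i)))
        (Fin.lastCases (x (.inr 1)) fun i => x (.inl (.inr i)))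
      map_add' := fun x y => by
        funext k
        rcases k with k | k <;> induction k using Fin.lastCases <;> simp [mul_add, -Fin.reduceLast]
      map_smul' := fun c x => by
        funext k
        rcases k with k | k <;> induction k using Fin.lastCases <;> simp [mul_left_comm, -Fin.reduceLast] }
  have hinj : Function.Injective L₀ := by
    rw [injective_iff_map_eq_zero]
    intro x hx
    funext k
    rcases k with (k | k) | k
    · simpa [L₀] using congrFun hx (.inl k.castSucc)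
    · simpa [L₀] using congrFun hx (.inr k.castSucc)
    · fin_cases k
      · simpa [L₀, ha, -Fin.reduceLast] using congrFun hx (.inl (Fin.last 3))
      · simpa [L₀, -Fin.reduceLast] using congrFun hx (.inr (Fin.last 3))
  refine ⟨L₀.linearEquivOfInjective hinj (by simp), fun x y => ?_⟩
  rw [LinearMap.linearEquivOfInjective_apply, LinearMap.linearEquivOfInjective_apply,
    CfsgLib.Linear.Symp.sympForm_eq_sum, Fin.sum_univ_castSucc, CfsgLib.OrthCrit.polar_minusForm,
    CfsgLib.OrthCrit.polar_plusForm]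
  simp only [L₀, LinearMap.coe_mk, AddHom.coe_mk, Sum.elim_inl, Sum.elim_inr, Fin.lastCases_castSucc,
    Fin.lastCases_last, Function.comp_apply, CharTwo.sub_eq_add, CharTwo.two_eq_zero]
  rw [zero_mul, zero_mul, zero_mul, zero_add, add_zero]
  refine congrArg₂ (· + ·) (Finset.sum_congr rfl fun i _ => by ring) (by ring)

theorem range_orderOf_psp : Set.range (orderOf : Cfsg.PSp 4 F → ℕ) = spec (Fintype.card F) := by
  classical
  obtain ⟨a, b, hab⟩ := CfsgLib.RootCount.exists_aniso (F := F)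
  have hinj : Function.Injective (QuotientGroup.mk' (Subgroup.center
      (Matrix.symplecticGroup (Fin 4) F))) := by
    rw [injective_iff_map_eq_one]
    intro g hg
    refine Subtype.ext ?_
    rcases (CfsgLib.Spectrum.pspMk_eq_one_iff (by norm_num) g).1 hg with h | h
    · exact h
    · refine h.trans (Matrix.ext fun i j => ?_)
      simp [CharTwo.neg_eq]
  refine range_eq_spec _ (fun x => ?_) fun N hN => ?_
  · obtain ⟨g, rfl⟩ := QuotientGroup.mk_surjective x
    let B : LinearMap.BilinForm F (Fin 4 ⊕ Fin 4 → F) := LinearMap.mk₂ F (Cfsg.sympForm 4 F)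
      CfsgLib.Linear.Symp.form_add_left CfsgLib.Linear.Symp.form_smul_left
      CfsgLib.Linear.Symp.form_add_right (fun c u v => CfsgLib.Linear.Symp.form_smul_right c u v)
    have hB : B.Nondegenerate := ⟨fun u hu => CfsgLib.Linear.Symp.eq_zero_of_forall_form hu,
      fun v hv => CfsgLib.Linear.Symp.eq_zero_of_forall_form fun w => by
        rw [CfsgLib.Linear.Symp.form_swap]
        exact neg_eq_zero.2 (hv w)⟩
    obtain ⟨f, hf⟩ : ∃ f : Matrix.symplecticGroup (Fin 4) F →* Module.End F (Fin 4 ⊕ Fin 4 → F),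
        ∀ h, f h = Matrix.toLinAlgEquiv' (h : Matrix (Fin 4 ⊕ Fin 4) (Fin 4 ⊕ Fin 4) F) :=
      ⟨(Matrix.toLinAlgEquiv' (R := F) (n := Fin 4 ⊕ Fin 4) :
          Matrix (Fin 4 ⊕ Fin 4) (Fin 4 ⊕ Fin 4) F →* Module.End F (Fin 4 ⊕ Fin 4 → F)).comp
        (Matrix.symplecticGroup (Fin 4) F).subtype, fun _ => rfl⟩
    have hfinj : Function.Injective f := fun u v huv =>
      Subtype.ext (Matrix.toLinAlgEquiv'.injective (by rwa [hf, hf] at huv))
    obtain ⟨N, hN, h1, -⟩ := exists_bound (F := F) (V := Fin 4 ⊕ Fin 4 → F) (by simp) B hB (f g)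
      (fun u v => by rw [hf]; exact CfsgLib.Linear.Symp.form_mulVec g.2 u v)
      (orderOf_pos g) (by rw [← map_pow, pow_orderOf_eq_one, map_one])
    refine ⟨N, hN, (orderOf_map_dvd (QuotientGroup.mk' _) g).trans ?_⟩
    rw [← map_pow] at h1
    exact orderOf_dvd_of_pow_eq_one (hfinj (h1.trans (map_one f).symm))
  · obtain ⟨g, hg⟩ := exists_orth_of_mem hab hN
    obtain ⟨L, hL⟩ := exists_symp_equiv (b := b)
      (CfsgLib.OrthCrit.a_ne_zero_of_anisotropic hab CharTwo.two_eq_zero)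
    let conj : Orth (minusForm 3 F a b) →* Matrix (Fin 4 ⊕ Fin 4) (Fin 4 ⊕ Fin 4) F :=
      { toFun := fun h => LinearMap.toMatrix' ((L.symm.trans h.1).trans L :
            (Fin 4 ⊕ Fin 4 → F) →ₗ[F] (Fin 4 ⊕ Fin 4 → F))
        map_one' := by
          rw [← LinearMap.toMatrix'_id]
          exact congrArg _ (LinearMap.ext fun x => L.apply_symm_apply x)
        map_mul' := fun h h' => by
          rw [← LinearMap.toMatrix'_comp]
          exact congrArg _ (LinearMap.ext fun x => by simp) }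
    have happ : ∀ h u, Matrix.mulVec (conj h) u = L (h.1 (L.symm u)) := fun h u =>
      LinearMap.toMatrix'_mulVec _ _
    let ψ : Orth (minusForm 3 F a b) →* Matrix.symplecticGroup (Fin 4) F :=
      conj.codRestrict _ fun h => CfsgLib.Linear.Symp.mem_of_form_mulVec fun u v => by
        rw [happ, happ, hL, CfsgLib.Classical.Quad.orth_polar, ← hL, L.apply_symm_apply,
          L.apply_symm_apply]
    have hψ : Function.Injective ψ := fun h h' e => orth_ext fun x => by
      have h1 := congrArg (fun k : Matrix.symplecticGroup (Fin 4) F => Matrix.mulVec k.1 (L x)) e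
      change Matrix.mulVec (conj h) (L x) = Matrix.mulVec (conj h') (L x) at h1
      simpa [happ] using h1
    exact ⟨(QuotientGroup.mk' _) (ψ g), by
      rw [orderOf_injective _ hinj, orderOf_injective _ hψ, hg]⟩

section ext

variable {K : Type} [Field K] [Fintype K] [CharP K 2]

/-- Extensions of `Ω⁻(8, q)` by many natural modules have the spectrum of `PSp(8, q)`. -/
theorem exists_large_group (M : ℕ) :
    ∃ (H : Type) (_ : Group H) (_ : Fintype H), M < Fintype.card H ∧
      Set.range (orderOf : H → ℕ) = spec (Fintype.card K) := by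
  classical
  obtain ⟨a, b, hab⟩ := CfsgLib.RootCount.exists_aniso (F := K)
  have hnd := CfsgLib.OrthCrit.ndPolar_minusForm 3 a b hab
    fun h => CfsgLib.OrthCrit.a_ne_zero_of_anisotropic hab h
  have hgen := CfsgLib.Orth.closure_refl hnd (Or.inr (by simp))
  let X : Subgroup (Orth (minusForm 3 K a b)) := (CfsgLib.Orth.dickson hnd hgen).ker
  have hX : ∀ g, g ∈ X ↔ Even (moved g) := fun g => by
    show Multiplicative.ofAdd (moved g : ZMod 2) = 1 ↔ _
    rw [ofAdd_eq_one, ZMod.natCast_eq_zero_iff_even]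
  haveI : Finite (Orth (minusForm 3 K a b)) :=
    Finite.of_equiv _ (CfsgLib.OrthCrit.toOrth (minusForm 3 K a b)).toEquiv
  let V := (Fin 3 ⊕ Fin 3) ⊕ Fin 2 → K
  have h2 : ∀ w : V, 2 • w = 0 := fun w => funext fun i => by
    show 2 • w i = 0
    rw [two_nsmul, CharTwo.add_self_eq_zero]
  have hnm : ∀ (g : X) (w : V), CfsgLib.ModuleExt.nm g w = powSum g.1 (orderOf g.1) w := by
    intro g w
    rw [Subgroup.orderOf_coe]
    rfl
  refine ⟨CfsgLib.ModuleExt.Ext X V (M + 1), inferInstance, Fintype.ofFinite _, ?_, ?_⟩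
  · letI := Fintype.ofFinite (CfsgLib.ModuleExt.Ext X V (M + 1))
    rw [← Nat.card_eq_fintype_card]
    exact CfsgLib.ModuleExt.le_card (X := X) (k := M + 1) (w := (Pi.single (.inr 0) 1 : V)) (by
      intro h
      have h' := congrFun h (.inr 0)
      rw [Pi.single_eq_same] at h'
      exact one_ne_zero h')
  · refine range_eq_spec _ (fun x => ?_) fun N hN => ?_
    · have hx : orderOf x ∈ Set.range (orderOf : CfsgLib.ModuleExt.Ext X V (M + 1) → ℕ) := ⟨x, rfl⟩
      rw [CfsgLib.ModuleExt.range_orderOf Nat.prime_two h2 (Nat.succ_pos M)] at hx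
      rcases hx with ⟨g, hg⟩ | ⟨g, ⟨w, hw⟩, hg⟩ <;>
        obtain ⟨N, hN, hdvd, hsum⟩ := bound_orth hnd g.1
      · exact ⟨N, hN, hg ▸ (Subgroup.orderOf_coe g ▸ hdvd)⟩
      · refine ⟨N, hN, hg ▸ ?_⟩
        rw [← Subgroup.orderOf_coe g]
        obtain ⟨m, hm⟩ := hdvd
        have h0 := hsum ((hX _).1 g.2) w
        rw [hm, powSum_mul _ (pow_orderOf_eq_one _)] at h0
        rcases Nat.even_or_odd m with ⟨j, hj⟩ | ⟨j, hj⟩
        · exact ⟨j, by rw [hm, hj]; ring⟩
        · rw [hj, add_nsmul, mul_nsmul', one_nsmul, h2, zero_add] at h0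
          exact absurd ((hnm g w).trans h0) hw
    · rcases exists_orth_even_of_mem hab hN with ⟨g, hodd, hg⟩ | ⟨g, w, hev, hw, hg⟩
      · have hgX : g ∈ X := by
          rw [MonoidHom.mem_ker, ← orderOf_eq_one_iff]
          refine Nat.eq_one_of_dvd_coprimes hodd.coprime_two_right
            (hg ▸ orderOf_map_dvd _ g) ?_
          have h2' := orderOf_dvd_natCard ((CfsgLib.Orth.dickson hnd hgen) g)
          rwa [show Nat.card (Multiplicative (ZMod 2)) = 2 by simp] at h2'
        refine ⟨SemidirectProduct.inr ⟨g, hgX⟩, ?_⟩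
        rw [orderOf_injective _ SemidirectProduct.inr_injective, Subgroup.orderOf_mk, hg]
      · have hgX := (hX g).2 hev
        have hmem : N ∈ Set.range (orderOf : CfsgLib.ModuleExt.Ext X V (M + 1) → ℕ) := by
          rw [CfsgLib.ModuleExt.range_orderOf Nat.prime_two h2 (Nat.succ_pos M)]
          refine Or.inr ⟨⟨g, hgX⟩, ⟨w, ?_⟩, by rw [Subgroup.orderOf_mk, hg]⟩
          rw [hnm]; exact hw
        obtain ⟨y, hy⟩ := hmem
        exact ⟨y, hy ▸ dvd_rfl⟩

end ext

end CfsgLib.Spectrum.EightEven
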